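import Groth.Agent.TopDesc98.Nerve.Proper
import Groth.Agent.TopDesc98.God.Disjoint

/-!
# Locally finite closed covers
-/

set_option autoImplicit false
set_option linter.style.haveILetI false

universe u

open CategoryTheory CategoryTheory.Limits Opposite TopologicalSpace Topology

namespace Groth.Agent.TopDesc98

variable {X : TopCat.{u}} {I : Type u} (U : I → Set X)

/-- The disjoint union of a family of subsets. -/
def coverMap : TopCat.of (Σ i, ↥(U i)) ⟶ X :=
  TopCat.ofHom ⟨fun z => z.2.1, continuous_sigma fun _ => continuous_subtype_val⟩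

theorem isProperMap_coverMap (hU : ∀ i, IsClosed (U i)) (hlf : LocallyFinite U) : IsProperMap (coverMap U) := by
  refine isProperMap_iff_isClosedMap_and_compact_fibers.2 ⟨(coverMap U).hom.continuous, fun C hC => ?_, fun x => ?_⟩
  · have e : coverMap U '' C = ⋃ i, (Subtype.val : U i → X) '' ((fun z : U i => (⟨i, z⟩ : Σ i, ↥(U i))) ⁻¹' C) := by
      ext y
      constructor
      · rintro ⟨⟨i, z⟩, hz, rfl⟩
        exact Set.mem_iUnion.2 ⟨i, z, hz, rfl⟩
      · intro hy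
        obtain ⟨i, z, hz, rfl⟩ := Set.mem_iUnion.1 hy
        exact ⟨⟨i, z⟩, hz, rfl⟩
    show IsClosed (coverMap U '' C)
    rw [e]
    refine LocallyFinite.isClosed_iUnion (hlf.subset fun i => ?_)
      fun i => (hU i).isClosedEmbedding_subtypeVal.isClosedMap _ (hC.preimage continuous_sigmaMk)
    rintro y ⟨z, -, rfl⟩
    exact z.2
  · refine Set.Finite.isCompact ?_
    refine Set.Finite.of_finite_image (f := Sigma.fst) ((hlf.point_finite x).subset ?_) ?_
    · rintro i ⟨⟨i, z⟩, hz, rfl⟩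
      exact (show z.1 = x from hz) ▸ z.2
    · rintro ⟨i, z⟩ hz ⟨j, w⟩ hw hij
      obtain rfl : i = j := hij
      obtain rfl : z = w := Subtype.ext ((show z.1 = x from hz).trans (show w.1 = x from hw).symm)
      rfl

theorem sep_coverMap (z z' : TopCat.of (Σ i, ↥(U i))) (h : coverMap U z = coverMap U z') (hne : z ≠ z') :
    ∃ A B : Set (TopCat.of (Σ i, ↥(U i))), IsOpen A ∧ IsOpen B ∧ z ∈ A ∧ z' ∈ B ∧ Disjoint A B := by
  obtain ⟨i, a⟩ := z
  obtain ⟨j, b⟩ := z'
  have hij : i ≠ j := by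
    rintro rfl
    obtain rfl : a = b := Subtype.ext h
    exact hne rfl
  refine ⟨Set.range (Sigma.mk i), Set.range (Sigma.mk j), isOpen_range_sigmaMk, isOpen_range_sigmaMk,
    ⟨a, rfl⟩, ⟨b, rfl⟩, Set.disjoint_left.2 ?_⟩
  rintro _ ⟨a', rfl⟩ ⟨b', hb⟩
  exact hij (congrArg Sigma.fst hb).symm

/-- The piece of a fibre power over a tuple of indices. -/
def coverPiece (p : ℕ) (σ : Fin (p + 1) → I) : Opens ((Nv.ofMap (coverMap U)).X p) :=
  ⟨⋂ k, {y | (y.1 k).1 = σ k}, isOpen_iInter_of_finite fun k => by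
    have h : {y : (Nv.ofMap (coverMap U)).X p | (y.1 k).1 = σ k} =
        (fun y : (Nv.ofMap (coverMap U)).X p => y.1 k) ⁻¹' Set.range (Sigma.mk (σ k)) := by
      ext y
      simp only [Set.mem_ofPred_eq, Set.mem_preimage, Set.range_sigmaMk, Set.mem_singleton_iff]
    rw [h]
    exact isOpen_range_sigmaMk.preimage ((continuous_apply k).comp continuous_subtype_val)⟩

theorem mem_coverPiece {p : ℕ} {σ : Fin (p + 1) → I} {y : (Nv.ofMap (coverMap U)).X p} :
    y ∈ coverPiece U p σ ↔ ∀ k, (y.1 k).1 = σ k := Set.mem_iInter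

/-- The piece over a tuple is the intersection. -/
noncomputable def coverPieceIso (p : ℕ) (σ : Fin (p + 1) → I) :
    (⟨(Nv.ofMap (coverMap U)).X p, (Nv.ofMap (coverMap U)).a p, coverPiece U p σ⟩ : Sp X) ≅
      ⟨TopCat.of (⋂ k, U (σ k) : Set X), TopCat.ofHom ⟨((↑) : (⋂ k, U (σ k) : Set X) → X), continuous_subtype_val⟩, ⊤⟩ where
  hom := ⟨⟨fun y => ⟨⟨coverMap U (y.1.1 0), Set.mem_iInter.2 fun k => by
      rw [← (mem_coverPiece U).1 y.2 k, ← y.1.2 k]
      exact (y.1.1 k).2.2⟩, trivial⟩,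
    Continuous.subtype_mk (Continuous.subtype_mk ((coverMap U).hom.continuous.comp
      ((continuous_apply 0).comp (continuous_subtype_val.comp continuous_subtype_val))) _) _⟩, fun _ => rfl⟩
  inv := ⟨⟨fun x => ⟨⟨fun k => ⟨σ k, ⟨x.1.1, Set.mem_iInter.1 x.1.2 k⟩⟩, fun _ => rfl⟩,
      (mem_coverPiece U).2 fun _ => rfl⟩,
    Continuous.subtype_mk (Continuous.subtype_mk (continuous_pi fun k =>
      continuous_sigmaMk.comp ((continuous_subtype_val.comp continuous_subtype_val).subtype_mk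
        fun x => Set.mem_iInter.1 x.1.2 k)) _) _⟩, fun _ => rfl⟩
  hom_inv_id := Sp.hom_ext _ _ fun y => Subtype.ext (funext fun k => by
    have h1 := (mem_coverPiece U).1 y.2 k
    have h2 := y.1.2 k
    refine (Sigma.subtype_ext h1 ?_).symm
    exact h2)
  inv_hom_id := Sp.hom_ext _ _ fun _ => rfl

/-- Cohomology of the levels of a closed cover. -/
theorem nonempty_H_cover_iso (F : CohTop.Ab X) (p q : ℕ) :
    Nonempty (AddCommGrpCat.of (CohTop.H ((CohTop.pull ((Nv.ofMap (coverMap U)).a p)).obj F) q) ≅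
      AddCommGrpCat.of (∀ σ : Fin (p + 1) → I,
        CohTop.H ((CohTop.pull (TopCat.ofHom ⟨((↑) : (⋂ k, U (σ k) : Set X) → X), continuous_subtype_val⟩ :
          TopCat.of (⋂ k, U (σ k) : Set X) ⟶ X)).obj F) q)) := by
  obtain ⟨e₁⟩ := Sp.nonempty_p0_homology_iso _ ((Nv.ofMap (coverMap U)).a p) F q
  obtain ⟨e₂⟩ := Sp.nonempty_homology_pieces_iso (Sp.p0 F) _ ((Nv.ofMap (coverMap U)).a p) (coverPiece U p)
    (fun σ σ' h y hy => h (funext fun k => ((mem_coverPiece U).1 hy.1 k).symm.trans ((mem_coverPiece U).1 hy.2 k)))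
    (fun y => ⟨fun k => (y.1 k).1, (mem_coverPiece U).2 fun _ => rfl⟩) (q : ℤ)
  have e₃ : ∀ σ : Fin (p + 1) → I, Nonempty
      (((Sp.cxFun (Sp.p0 F)).obj (op ⟨_, (Nv.ofMap (coverMap U)).a p, coverPiece U p σ⟩)).homology (q : ℤ) ≅
        AddCommGrpCat.of (CohTop.H ((CohTop.pull (TopCat.ofHom ⟨((↑) : (⋂ k, U (σ k) : Set X) → X),
          continuous_subtype_val⟩ : TopCat.of (⋂ k, U (σ k) : Set X) ⟶ X)).obj F) q)) := fun σ => by
    obtain ⟨e⟩ := Sp.nonempty_p0_homology_iso (TopCat.of (⋂ k, U (σ k) : Set X))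
      (TopCat.ofHom ⟨((↑) : (⋂ k, U (σ k) : Set X) → X), continuous_subtype_val⟩) F q
    exact ⟨(HomologicalComplex.homologyFunctor _ _ (q : ℤ)).mapIso
      ((Sp.cxFun (Sp.p0 F)).mapIso (coverPieceIso U p σ).symm.op) ≪≫ e⟩
  exact ⟨e₁.symm ≪≫ e₂ ≪≫ (AddEquiv.piCongrRight fun σ => (e₃ σ).some.addCommGroupIsoToAddEquiv).toAddCommGrpIso⟩

end Groth.Agent.TopDesc98
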