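import Groth.Agent.TopDesc98.Nerve.Contr

/-!
# Lifting coboundaries of total complexes column by column
-/

set_option autoImplicit false

universe u

open CategoryTheory CategoryTheory.Limits Opposite TopologicalSpace

namespace Groth.Agent.TopDesc98

namespace DCx

variable {K L : DCx.{u}}

/-- The image of a family under a map of double complexes. -/
noncomputable def img (φ : K ⟶ L) : (∀ p q : ℤ, (K.X p).X q) →+ (∀ p q : ℤ, (L.X p).X q) :=
  AddMonoidHom.mk' (fun x p q => ((φ.f p).f q).hom (x p q))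
    fun x y => funext fun p => funext fun q => map_add _ _ _

theorem D_img (φ : K ⟶ L) (x : ∀ p q : ℤ, (K.X p).X q) : D L (img φ x) = img φ (D K x) := D_natural φ x

theorem img_mem (φ : K ⟶ L) {n : ℤ} {x : ∀ p q : ℤ, (K.X p).X q} (hx : x ∈ stepGrp K ⊤ n) :
    img φ x ∈ stepGrp L ⊤ n := fun p q h => (congrArg _ (hx p q h)).trans (map_zero ((φ.f p).f q).hom)

theorem img_sgl (φ : K ⟶ L) (p q : ℤ) (c : (K.X p).X q) :
    img φ (sgl K p q c) = sgl L p q (((φ.f p).f q).hom c) := by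
  refine funext fun p' => funext fun q' => ?_
  show ((φ.f p').f q').hom (sgl K p q c p' q') = _
  by_cases h : p' = p ∧ q' = q
  · obtain ⟨rfl, rfl⟩ := h
    rw [sgl_self, sgl_self]
  · rw [sgl_ne K p q c p' q' (not_and_or.1 h), sgl_ne L p q _ p' q' (not_and_or.1 h), map_zero]

theorem sign_smul {G : Type u} [AddCommGroup G] (p : ℤ) (g : G) :
    ((p.negOnePow : ℤˣ) : ℤ) • ((p.negOnePow : ℤˣ) : ℤ) • g = g := by
  rw [smul_smul, Int.units_coe_mul_self, one_zsmul]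

theorem sgl_D_left (K : DCx.{u}) (p q q₁ : ℤ) (h : q + 1 = q₁) (c : (K.X p).X q) :
    D K (sgl K p q c) p q₁ = (p.negOnePow : ℤ) • ((K.X p).d q q₁).hom c := by
  rw [D_sgl K p q (p + 1) q₁ rfl h, Pi.add_apply, Pi.add_apply, sgl_self,
    sgl_ne K (p + 1) q _ p q₁ (Or.inl (by omega)), add_zero]

theorem D_eq_of_vanish (K : DCx.{u}) (x : ∀ p q : ℤ, (K.X p).X q) (p q q₁ : ℤ) (h : q + 1 = q₁)
    (hx : x (p - 1) q₁ = 0) : D K x p q₁ = (p.negOnePow : ℤ) • ((K.X p).d q q₁).hom (x p q) := by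
  obtain rfl : q = q₁ - 1 := by omega
  rw [D_apply, hx, map_zero, add_zero]

theorem eq_zero_of_lt (K : DCx.{u}) {m n : ℤ} {x : ∀ p q : ℤ, (K.X p).X q} (hx : x ∈ stepGrp K ⊤ n)
    (h : ∀ q, x m q = 0 ∨ m + q ≠ n) (hlt : ∀ p q, p < m → x p q = 0) (p q : ℤ) (hp : p < m + 1) : x p q = 0 := by
  rcases lt_or_eq_of_le (Int.lt_add_one_iff.1 hp) with hp | rfl
  · exact hlt p q hp
  · exact (h q).elim id fun hq => hx p q (Or.inl hq)

end DCx

namespace Nv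

open Sp

variable {S : TopCat.{u}} (N : Nv S) (Q₀ : Psh S) (o₀ : Sp S) (x : S) (ι : ∀ V : Opens S, x ∈ V → (o₀ ⟶ oS V))

/-- Cohomology of the columns near `x` is that of the columns over `o₀`. -/
structure ColDesc : Prop where
  nat : ∀ (V V' : Opens S) (h : V' ≤ V) (hx' : x ∈ V'), ι V' hx' ≫ oI h = ι V (h hx')
  lift : ∀ (p q₀ q q₁ : ℤ), q₀ + 1 = q → q + 1 = q₁ → ∀ (V : Opens S), x ∈ V →
    ∀ b : ((N.K Q₀ o₀).X p).X q, (((N.K Q₀ o₀).X p).d q q₁).hom b = 0 →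
      ∃ (V' : Opens S) (_ : V' ≤ V) (hx' : x ∈ V') (e : ((N.K Q₀ (oS V')).X p).X q),
        (((N.K Q₀ (oS V')).X p).d q q₁).hom e = 0 ∧ ∃ b' : ((N.K Q₀ o₀).X p).X q₀,
          b = (((N.Kmap Q₀ (ι V' hx')).f p).f q).hom e + (((N.K Q₀ o₀).X p).d q₀ q).hom b'
  bound : ∀ (p q₀ q q₁ : ℤ), q₀ + 1 = q → q + 1 = q₁ → ∀ (V : Opens S) (hx : x ∈ V)
    (c : ((N.K Q₀ (oS V)).X p).X q), (((N.K Q₀ (oS V)).X p).d q q₁).hom c = 0 →
    ∀ b : ((N.K Q₀ o₀).X p).X q₀, (((N.Kmap Q₀ (ι V hx)).f p).f q).hom c = (((N.K Q₀ o₀).X p).d q₀ q).hom b →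
      ∃ (V' : Opens S) (h : V' ≤ V), x ∈ V' ∧ ∃ w : ((N.K Q₀ (oS V')).X p).X q₀,
        (((N.K Q₀ (oS V')).X p).d q₀ q).hom w = (((N.Kmap Q₀ (oI h)).f p).f q).hom c

variable {N Q₀ o₀ x ι} (hN : N.ColDesc Q₀ o₀ x ι)

include hN

theorem ColDesc.img_img {V V' : Opens S} (h : V' ≤ V) (hx' : x ∈ V')
    (c : ∀ p q : ℤ, ((N.K Q₀ (oS V)).X p).X q) :
    DCx.img (N.Kmap Q₀ (ι V' hx')) (DCx.img (N.Kmap Q₀ (oI h)) c) = DCx.img (N.Kmap Q₀ (ι V (h hx'))) c := by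
  rw [← hN.nat V V' h hx', N.Kmap_comp]
  rfl

/-- Coboundaries over `o₀` of cocycles near `x` are coboundaries near `x`. -/
theorem ColDesc.exists_primitive : ∀ (k : ℕ) (m n : ℤ), n + 1 ≤ m + k →
    ∀ (V : Opens S) (hx : x ∈ V) (c : ∀ p q : ℤ, ((N.K Q₀ (oS V)).X p).X q),
    c ∈ DCx.stepGrp (N.K Q₀ (oS V)) ⊤ n → DCx.D (N.K Q₀ (oS V)) c = 0 → (∀ p q, p < m → c p q = 0) →
    ∀ y : ∀ p q : ℤ, ((N.K Q₀ o₀).X p).X q, y ∈ DCx.stepGrp (N.K Q₀ o₀) ⊤ (n - 1) → (∀ p q, p < m → y p q = 0) →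
    DCx.img (N.Kmap Q₀ (ι V hx)) c = DCx.D (N.K Q₀ o₀) y →
    ∃ (V' : Opens S) (h : V' ≤ V), x ∈ V' ∧ ∃ z : ∀ p q : ℤ, ((N.K Q₀ (oS V')).X p).X q,
      z ∈ DCx.stepGrp (N.K Q₀ (oS V')) ⊤ (n - 1) ∧
        DCx.D (N.K Q₀ (oS V')) z = DCx.img (N.Kmap Q₀ (oI h)) c := by
  intro k
  induction k with
  | zero =>
    intro m n hk V hx c hcm hc hlow y hym hylow he
    refine ⟨V, le_rfl, hx, 0, zero_mem _, ?_⟩
    have : c = 0 := funext fun p => funext fun q => by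
      by_cases hp : p < m
      · exact hlow p q hp
      · by_cases h : p + q = n
        · exact @Subsingleton.elim _ (AddCommGrpCat.subsingleton_of_isZero
            (N.isQuad_K Q₀ (oS V) p q (Or.inr (by omega)))) _ _
        · exact hcm p q (Or.inl h)
    rw [this, map_zero, map_zero]
  | succ k ih =>
    intro m n hk V hx c hcm hc hlow y hym hylow he
    obtain ⟨q, hq⟩ : ∃ q, m + q = n := ⟨n - m, by omega⟩
    have hdc : (((N.K Q₀ (oS V)).X m).d q (q + 1)).hom (c m q) = 0 := by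
      have e := congrFun (congrFun hc m) (q + 1)
      rw [DCx.D_eq_of_vanish _ c m q (q + 1) rfl (hlow _ _ (by omega))] at e
      have e' := congrArg (fun t => ((m.negOnePow : ℤˣ) : ℤ) • t) e
      simp only [DCx.sign_smul, Pi.zero_apply, smul_zero] at e'
      exact e'
    have hd : (((N.Kmap Q₀ (ι V hx)).f m).f q).hom (c m q) =
        (((N.K Q₀ o₀).X m).d (q - 1) q).hom (((m.negOnePow : ℤˣ) : ℤ) • y m (q - 1)) := by
      rw [map_zsmul, ← DCx.D_eq_of_vanish _ y m (q - 1) q (by omega) (hylow _ _ (by omega))]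
      exact congrFun (congrFun he m) q
    obtain ⟨V₁, h₁, hx₁, w, hw⟩ :=
      hN.bound m (q - 1) q (q + 1) (by omega) rfl V hx (c m q) hdc _ hd
    -- correct by a cocycle over `o₀`
    let b : ((N.K Q₀ o₀).X m).X (q - 1) :=
      ((m.negOnePow : ℤˣ) : ℤ) • y m (q - 1) - (((N.Kmap Q₀ (ι V₁ hx₁)).f m).f (q - 1)).hom w
    have hb : (((N.K Q₀ o₀).X m).d (q - 1) q).hom b = 0 := by
      rw [map_sub, ← hd, sub_eq_zero]
      refine Eq.trans ?_ (ConcreteCategory.congr_hom (((N.Kmap Q₀ (ι V₁ hx₁)).f m).comm (q - 1) q) w).symm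
      refine Eq.trans ?_ (congrArg _ hw).symm
      exact (congrFun (congrFun (hN.img_img h₁ hx₁ c) m) q).symm
    obtain ⟨V₂, h₂, hx₂, e, he₁, b', hb'⟩ :=
      hN.lift m (q - 1 - 1) (q - 1) q (by omega) (by omega) V₁ hx₁ b hb
    let φ := N.Kmap Q₀ (oI (h₂.trans h₁))
    let yₘ : ((N.K Q₀ (oS V₂)).X m).X (q - 1) :=
      ((m.negOnePow : ℤˣ) : ℤ) • ((((N.Kmap Q₀ (oI h₂)).f m).f (q - 1)).hom w + e)
    let s := DCx.sgl (N.K Q₀ (oS V₂)) m (q - 1) yₘ
    have hs : s ∈ DCx.stepGrp (N.K Q₀ (oS V₂)) ⊤ (n - 1) := DCx.sgl_mem _ _ _ _ _ (by omega)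
    let c' := DCx.img φ c - DCx.D (N.K Q₀ (oS V₂)) s
    let r := DCx.sgl (N.K Q₀ o₀) m (q - 1 - 1) b'
    let y' := y - DCx.img (N.Kmap Q₀ (ι V₂ hx₂)) s - DCx.D (N.K Q₀ o₀) r
    have hc'm : c' ∈ DCx.stepGrp (N.K Q₀ (oS V₂)) ⊤ n := by
      refine sub_mem (DCx.img_mem φ hcm) ?_
      have := DCx.D_mem _ hs
      rwa [show n - 1 + 1 = n by omega] at this
    have hy'm : y' ∈ DCx.stepGrp (N.K Q₀ o₀) ⊤ (n - 1) := by
      refine sub_mem (sub_mem hym (DCx.img_mem _ hs)) ?_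
      have := DCx.D_mem _ (DCx.sgl_mem (N.K Q₀ o₀) m (q - 1 - 1) b' (n - 1 - 1) (by omega))
      rwa [show n - 1 - 1 + 1 = n - 1 by omega] at this
    have hsgl0 : ∀ (o : Sp S) (q' : ℤ) (d : ((N.K Q₀ o).X m).X q') (p q'' : ℤ), p < m →
        DCx.D (N.K Q₀ o) (DCx.sgl (N.K Q₀ o) m q' d) p q'' = 0 := fun o q' d p q'' hp => by
      rw [DCx.D_sgl _ m q' (m + 1) (q' + 1) rfl rfl, Pi.add_apply, Pi.add_apply,
        DCx.sgl_ne _ _ _ _ p q'' (Or.inl (by omega)), DCx.sgl_ne _ _ _ _ p q'' (Or.inl (by omega)), add_zero]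
    obtain ⟨V₃, h₃, hx₃, z, hz, hDz⟩ := ih (m + 1) n (by omega) V₂ hx₂ c' hc'm
      (by
        show DCx.D _ (DCx.img φ c - _) = 0
        rw [map_sub, DCx.D_img, hc, map_zero, DCx.D_D, sub_zero])
      (fun p q'' hp => DCx.eq_zero_of_lt _ hc'm (fun q'' => by
        by_cases hq'' : m + q'' = n
        · obtain rfl : q'' = q := by omega
          left
          show DCx.img φ c m q'' - DCx.D _ s m q'' = 0
          rw [DCx.sgl_D_left _ m (q'' - 1) q'' (by omega), map_zsmul, DCx.sign_smul, map_add, he₁, add_zero,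
            sub_eq_zero]
          refine Eq.trans ?_ (ConcreteCategory.congr_hom (((N.Kmap Q₀ (oI h₂)).f m).comm (q'' - 1) q'') w).symm
          refine Eq.trans ?_ (congrArg _ hw).symm
          show ((((N.Kmap Q₀ (oI (h₂.trans h₁))).f m).f q'').hom (c m q'')) = _
          rw [show (oI (h₂.trans h₁) : oS V₂ ⟶ oS V) = oI h₂ ≫ oI h₁ from hom_ext _ _ fun _ => rfl, N.Kmap_comp]
          rfl
        · exact Or.inr hq'') (fun p q'' hp => by
          show DCx.img φ c p q'' - DCx.D _ s p q'' = 0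
          rw [hsgl0 _ _ _ p q'' hp, sub_zero]
          exact (congrArg _ (hlow p q'' hp)).trans (map_zero ((φ.f p).f q'').hom)) p q'' hp)
      y' hy'm
      (fun p q'' hp => DCx.eq_zero_of_lt _ hy'm (fun q'' => by
        by_cases hq'' : m + q'' = n - 1
        · obtain rfl : q'' = q - 1 := by omega
          left
          show y m (q - 1) - DCx.img _ s m (q - 1) - DCx.D _ r m (q - 1) = 0
          rw [DCx.sgl_D_left _ m (q - 1 - 1) (q - 1) (by omega), DCx.img_sgl, DCx.sgl_self]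
          have hb'' : (((N.K Q₀ o₀).X m).d (q - 1 - 1) (q - 1)).hom b' =
              b - (((N.Kmap Q₀ (ι V₂ hx₂)).f m).f (q - 1)).hom e := by
            rw [hb', add_sub_cancel_left]
          have hww : (((N.Kmap Q₀ (ι V₂ hx₂)).f m).f (q - 1)).hom
              ((((N.Kmap Q₀ (oI h₂)).f m).f (q - 1)).hom w) = (((N.Kmap Q₀ (ι V₁ hx₁)).f m).f (q - 1)).hom w := by
            rw [← hN.nat V₁ V₂ h₂ hx₂, N.Kmap_comp]
            rfl
          rw [hb'', map_zsmul, map_add, hww]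
          simp only [b, smul_sub, smul_add, DCx.sign_smul]
          abel
        · exact Or.inr hq'') (fun p q'' hp => by
          show y p q'' - DCx.img _ s p q'' - DCx.D _ r p q'' = 0
          rw [hsgl0 _ _ _ p q'' hp, sub_zero, hylow p q'' hp, zero_sub, neg_eq_zero, DCx.img_sgl,
            DCx.sgl_ne _ _ _ _ p q'' (Or.inl (by omega))]) p q'' hp)
      (by
        show DCx.img (N.Kmap Q₀ (ι V₂ hx₂)) (DCx.img φ c - _) = DCx.D _ (y - _ - _)
        rw [map_sub, map_sub, map_sub, hN.img_img, he, DCx.D_img, DCx.D_D, sub_zero])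
    refine ⟨V₃, h₃.trans (h₂.trans h₁), hx₃, z + DCx.img (N.Kmap Q₀ (oI h₃)) s,
      add_mem hz (DCx.img_mem _ hs), ?_⟩
    rw [map_add, hDz, DCx.D_img, ← map_add, sub_add_cancel]
    show DCx.img _ (DCx.img φ c) = _
    rw [show (oI (h₃.trans (h₂.trans h₁)) : oS V₃ ⟶ oS V) = oI h₃ ≫ oI (h₂.trans h₁) from hom_ext _ _ fun _ => rfl,
      N.Kmap_comp]
    rfl

end Nv

end Groth.Agent.TopDesc98
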