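import Groth.Agent.TopDesc98.Nerve.Fibre
import Groth.Agent.TopDesc98.Nerve.ColDesc

/-!
# Proper separated surjective maps satisfy local descent
-/

set_option autoImplicit false
set_option linter.style.haveILetI false

universe u

open CategoryTheory CategoryTheory.Limits Opposite TopologicalSpace Topology

namespace Groth.Agent.TopDesc98

open Sp

variable {S X : TopCat.{u}} {f : X ⟶ S}

theorem toNbd_eq (x : S) (p : ℕ) (V : Opens S) (hx : x ∈ V)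
    (hV : ∀ z, (Nv.ofMap f).fibInc x p z ∈ ((Nv.ofMap f).bc p (Nv.oS V)).U) :
    toNbd ((Nv.ofMap f).fibInc x p) ((Nv.ofMap f).bc p (Nv.oS ⊤)).a ((Nv.ofMap f).bc p (ptSp x)).a
      ((Nv.ofMap f).fibInc_a x p) ((Nv.ofMap f).bc p (Nv.oS V)).U hV = (Nv.ofMap f).bcMap p (ptInc hx) :=
  hom_ext _ _ fun _ => rfl

theorem colDesc_of_proper (hf : IsProperMap f) (hs : ∀ x x' : X, f x = f x' → x ≠ x' →
      ∃ U V : Set X, IsOpen U ∧ IsOpen V ∧ x ∈ U ∧ x' ∈ V ∧ Disjoint U V) (F : CohTop.Ab S) (x : S) :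
    (Nv.ofMap f).ColDesc (p0 F) (ptSp x) x (fun _ hx => ptInc hx) where
  nat _ _ _ _ := hom_ext _ _ fun _ => rfl
  lift p q₀ q q₁ h₀ h₁ V hx b hb := by
    cases p with
    | negSucc p =>
      refine ⟨V, le_rfl, hx, 0, map_zero _, 0, ?_⟩
      exact @Subsingleton.elim _ (AddCommGrpCat.subsingleton_of_isZero
        ((Nv.ofMap f).isQuad_K (p0 F) (ptSp x) _ q (Or.inl (Int.negSucc_lt_zero p)))) _ _
    | ofNat p =>
      haveI := compactSpace_fib f hf x p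
      obtain ⟨W, hW, e, he, b', hb'⟩ := exists_cocycle_near ((Nv.ofMap f).fibInc x p)
        ((Nv.ofMap f).bc p (Nv.oS ⊤)).a ((Nv.ofMap f).bc p (ptSp x)).a ((Nv.ofMap f).fibInc_a x p) (p0 F)
        (isInducing_fibInc f x p) (disjoint_nhds_fibInc f hs x p) (p0_isSheaf F _ _) (p0_isSheaf F _ _)
        (isIso_pMap_p0 _ _ _ _ F) q₀ q q₁ h₀ h₁ b hb
      obtain ⟨V', h', hx', hle⟩ := exists_preimage_le f hf x p V hx W hW
      let r := (ofOpen ((Nv.ofMap f).bc p (Nv.oS ⊤)).T ((Nv.ofMap f).bc p (Nv.oS ⊤)).a).map (homOfLE hle)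
      refine ⟨V', h', hx', (((cxFun (p0 F)).map r.op).f q).hom e, ?_, b', ?_⟩
      · exact ((ConcreteCategory.congr_hom (((cxFun (p0 F)).map r.op).comm q q₁) e).trans
          ((congrArg _ he).trans (map_zero (((cxFun (p0 F)).map r.op).f q₁).hom)))
      · refine hb'.trans (congrArg₂ (· + ·) ?_ rfl)
        refine (map_map ((cx (p0 F)).X q) r ((Nv.ofMap f).bcMap p (ptInc hx'))
          (toNbd ((Nv.ofMap f).fibInc x p) ((Nv.ofMap f).bc p (Nv.oS ⊤)).a ((Nv.ofMap f).bc p (ptSp x)).a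
            ((Nv.ofMap f).fibInc_a x p) W hW) (fun _ => rfl) e).symm
  bound p q₀ q q₁ h₀ h₁ V hx c hc b hb := by
    cases p with
    | negSucc p =>
      refine ⟨V, le_rfl, hx, 0, ?_⟩
      exact @Subsingleton.elim _ (AddCommGrpCat.subsingleton_of_isZero
        ((Nv.ofMap f).isQuad_K (p0 F) (Nv.oS V) _ q (Or.inl (Int.negSucc_lt_zero p)))) _ _
    | ofNat p =>
      haveI := compactSpace_fib f hf x p
      have hV : ∀ z, (Nv.ofMap f).fibInc x p z ∈ ((Nv.ofMap f).bc p (Nv.oS V)).U := fun _ => hx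
      have hb₂ : ρ ((Nv.ofMap f).fibInc x p) ((Nv.ofMap f).bc p (Nv.oS ⊤)).a ((Nv.ofMap f).bc p (ptSp x)).a
          ((Nv.ofMap f).fibInc_a x p) (p0 F) ((Nv.ofMap f).bc p (Nv.oS V)).U hV q c =
          (((cxFun (p0 F)).obj (op ((Nv.ofMap f).bc p (ptSp x)))).d q₀ q).hom b := by
        refine Eq.trans ?_ hb
        exact congrArg (fun t => (((cxFun (p0 F)).map (Quiver.Hom.op t)).f q).hom c) (toNbd_eq x p V hx hV)
      obtain ⟨W, hle, hW, w, hw⟩ := exists_bound_near ((Nv.ofMap f).fibInc x p)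
        ((Nv.ofMap f).bc p (Nv.oS ⊤)).a ((Nv.ofMap f).bc p (ptSp x)).a ((Nv.ofMap f).fibInc_a x p) (p0 F)
        (isInducing_fibInc f x p) (disjoint_nhds_fibInc f hs x p) (p0_isSheaf F _ _) (p0_isSheaf F _ _)
        (isIso_pMap_p0 _ _ _ _ F) q₀ q q₁ h₀ h₁ _ hV c hc b hb₂
      obtain ⟨V', h', hx', hle'⟩ := exists_preimage_le f hf x p V hx W hW
      let r := (ofOpen ((Nv.ofMap f).bc p (Nv.oS ⊤)).T ((Nv.ofMap f).bc p (Nv.oS ⊤)).a).map (homOfLE hle')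
      refine ⟨V', h', hx', (((cxFun (p0 F)).map r.op).f q₀).hom w, ?_⟩
      refine (ConcreteCategory.congr_hom (((cxFun (p0 F)).map r.op).comm q₀ q) w).trans ((congrArg _ hw).trans ?_)
      exact map_map ((cx (p0 F)).X q) _ r ((Nv.ofMap f).bcMap p (Nv.oI h')) (fun _ => rfl) c

theorem mem_eq_zero_of_neg {N : Nv S} {Q₀ : Psh S} {o : Sp S} {n : ℤ} (hn : n < 0)
    {z : ∀ p q : ℤ, ((N.K Q₀ o).X p).X q} (hz : z ∈ DCx.stepGrp (N.K Q₀ o) ⊤ n) : z = 0 :=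
  funext fun p => funext fun q => by
    by_cases h : p + q = n
    · exact @Subsingleton.elim _ (AddCommGrpCat.subsingleton_of_isZero (N.isQuad_K Q₀ o p q (by omega))) _ _
    · exact hz p q (Or.inl h)

theorem img_aug (N : Nv S) (Q₀ : Psh S) {o' o : Sp S} (g : o' ⟶ o) (s : Q₀.obj (op o)) :
    DCx.img (N.Kmap Q₀ g) (N.aug Q₀ o s).1 = (N.aug Q₀ o' ((Q₀.map g.op).hom s)).1 :=
  (DCx.img_sgl _ 0 0 _).trans (congrArg _ (N.aug₀_natural Q₀ g s))

/-- Local descent for proper separated surjective maps. -/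
theorem locDesc_of_proper (hf : IsProperMap f) (hs : ∀ x x' : X, f x = f x' → x ≠ x' →
      ∃ U V : Set X, IsOpen U ∧ IsOpen V ∧ x ∈ U ∧ x' ∈ V ∧ Disjoint U V) (hsurj : Function.Surjective f)
    (F : CohTop.Ab S) : (Nv.ofMap f).LocDesc (p0 F) := by
  let N := Nv.ofMap f
  have hC : ∀ x : S, Nonempty (N.Contr (ptSp x)) := fun x => by
    obtain ⟨z, hz⟩ := hsurj x
    exact ⟨Nv.contrOfSection f (ptSp x) ⟨fun _ => z, continuous_const⟩ fun _ => hz⟩
  refine ⟨fun V s h0 x hx => ⟨V, le_rfl, hx, ?_⟩, fun V c hc x hx => ?_, fun n V c hc x hx => ?_⟩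
  · have hz : s = 0 := Subtype.ext (funext fun y => by
      obtain ⟨z, hz⟩ := hsurj y.1
      let z₀ : (N.bc 0 (Nv.oS V)).T := ⟨(y.1, ⟨fun _ => z, fun _ => rfl⟩), hz⟩
      have e : N.aug₀ (p0 F) (Nv.oS V) s = 0 := by
        rw [← DCx.sgl_self (N.K (p0 F) (Nv.oS V)) 0 0 (N.aug₀ (p0 F) (Nv.oS V) s)]
        exact congrFun (congrFun (congrArg Subtype.val h0) 0) 0
      obtain ⟨W, hW, hzW, e'⟩ := unit_eq_zero (p0 F) (N.bc 0 (Nv.oS V))
        (((p0 F).map (N.bcAug (Nv.oS V)).op).hom s) e z₀ y.2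
      exact congrFun (congrArg Subtype.val e') ⟨z₀, hzW⟩)
    rw [hz, map_zero]
  · obtain ⟨C⟩ := hC x
    have hN := colDesc_of_proper hf hs F x
    let ι := N.Kmap (p0 F) (ptInc hx)
    obtain ⟨y, z, hz, e⟩ := C.decomp (p0 F) 0 ⟨DCx.img ι c.1, DCx.img_mem ι c.2⟩
      (by rw [DCx.D_img, hc, map_zero])
    rw [mem_eq_zero_of_neg (by omega) y.2, map_zero, zero_add] at e
    have hz' : ((diff (p0 F) 0).app (op (ptSp x))).hom z = 0 :=
      (ConcreteCategory.congr_hom (congrArg (fun t : (cx (p0 F)).X _ ⟶ _ => t.app (op (ptSp x)))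
        (cx_d (p0 F) 0)) z).symm.trans hz
    obtain ⟨W, hW, hxW, t, ht⟩ := diff_exact_zero (p0 F) (ptSp x) z hz' PUnit.unit trivial
    obtain rfl : W = (⊤ : Opens (ptSp x).T) := eq_top_iff.2 fun u _ => hxW
    replace ht : ((unit (p0 F)).app (op (ptSp x))).hom t = z :=
      ht.trans (ConcreteCategory.congr_hom (((term (p0 F) 0)).map_id (op (ptSp x))) z)
    obtain ⟨W₁, V₁, t₁, hW₁, ht₁⟩ := t.2 ⟨PUnit.unit, trivial⟩
    obtain ⟨hxV₁, et⟩ := ht₁ ⟨PUnit.unit, trivial⟩ hW₁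
    let V₂ : Opens S := V ⊓ V₁
    have hx₂ : x ∈ V₂ := ⟨hx, hxV₁⟩
    let s : (p0 F).obj (op (Nv.oS V₂)) := ((p0 F).map (Nv.oI (inf_le_right : V₂ ≤ V₁)).op).hom
      (((p0Unit F S (𝟙 S)).hom.app (op V₁)).hom t₁)
    have hst : ((p0 F).map (ptInc hx₂).op).hom s = t := Subtype.ext (funext fun u => by
      refine Eq.trans ?_ et.symm
      exact (congrArg _ (tr_gF F _ V₁ _ t₁)).trans (tr_gF F _ V₁ _ t₁))
    let c₂ := DCx.img (N.Kmap (p0 F) (Nv.oI (inf_le_left : V₂ ≤ V))) c.1 - (N.aug (p0 F) (Nv.oS V₂) s).1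
    obtain ⟨V₃, h₃, hx₃, w, hw, hDw⟩ := hN.exists_primitive 1 0 0 le_rfl V₂ hx₂ c₂
      (sub_mem (DCx.img_mem _ c.2) (N.aug (p0 F) (Nv.oS V₂) s).2)
      (by
        show DCx.D _ (DCx.img _ c.1 - _) = 0
        rw [map_sub, DCx.D_img, hc, map_zero, zero_sub, neg_eq_zero]
        exact N.D_aug₀ (p0 F) _ s)
      (fun p q hp => @Subsingleton.elim _ (AddCommGrpCat.subsingleton_of_isZero
        (N.isQuad_K (p0 F) (Nv.oS V₂) p q (Or.inl hp))) _ _)
      0 (zero_mem _) (fun _ _ _ => rfl)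
      (by
        show DCx.img (N.Kmap (p0 F) (ptInc hx₂)) (DCx.img _ c.1 - _) = _
        rw [map_sub, hN.img_img, img_aug, hst, map_zero, sub_eq_zero]
        refine e.trans ?_
        rw [Nv.aug_eq_sgl, ht])
    rw [mem_eq_zero_of_neg (by omega) hw, map_zero] at hDw
    refine ⟨V₃, h₃.trans inf_le_left, hx₃, ((p0 F).map (Nv.oI h₃).op).hom s, Subtype.ext ?_⟩
    rw [map_sub, eq_comm, sub_eq_zero, img_aug] at hDw
    refine hDw.symm.trans ?_
    show DCx.img (N.Kmap (p0 F) (Nv.oI h₃)) (DCx.img (N.Kmap (p0 F) (Nv.oI (inf_le_left : V₂ ≤ V))) c.1) =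
      DCx.img (N.Kmap (p0 F) (Nv.oI (h₃.trans inf_le_left))) c.1
    rw [show (Nv.oI (h₃.trans inf_le_left) : Nv.oS V₃ ⟶ Nv.oS V) = Nv.oI h₃ ≫ Nv.oI (inf_le_left : V₂ ≤ V) from
      hom_ext _ _ fun _ => rfl, N.Kmap_comp]
    rfl
  · obtain ⟨C⟩ := hC x
    have hN := colDesc_of_proper hf hs F x
    let ι := N.Kmap (p0 F) (ptInc hx)
    obtain ⟨y, z, hz, e⟩ := C.decomp (p0 F) _ ⟨DCx.img ι c.1, DCx.img_mem ι c.2⟩
      (by rw [DCx.D_img, hc, map_zero])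
    have hz' : ((diff (p0 F) (n + 1)).app (op (ptSp x))).hom z = 0 :=
      (ConcreteCategory.congr_hom (congrArg (fun t : (cx (p0 F)).X _ ⟶ _ => t.app (op (ptSp x)))
        (cx_d (p0 F) (n + 1))) z).symm.trans hz
    obtain ⟨W, hW, hxW, t, ht⟩ := diff_exact (p0 F) n (ptSp x) z hz' PUnit.unit trivial
    obtain rfl : W = (⊤ : Opens (ptSp x).T) := eq_top_iff.2 fun u _ => hxW
    replace ht : (((cxFun (p0 F)).obj (op (ptSp x))).d (n : ℤ) ((n : ℤ) + 1)).hom t = z :=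
      (ConcreteCategory.congr_hom (congrArg (fun t : (cx (p0 F)).X _ ⟶ _ => t.app (op (ptSp x))) (cx_d (p0 F) n)) t).trans
        (ht.trans (ConcreteCategory.congr_hom (((term (p0 F) (n + 1))).map_id (op (ptSp x))) z))
    let y' := y.1 + DCx.sgl (N.K (p0 F) (ptSp x)) 0 (n : ℤ) (N.augH (p0 F) (ptSp x) (n : ℤ) t)
    obtain ⟨V', h', hx', w, hw, hDw⟩ := hN.exists_primitive (n + 2) 0 ((n : ℤ) + 1) (by push_cast; omega)
      V hx c.1 c.2 hc
      (fun p q hp => @Subsingleton.elim _ (AddCommGrpCat.subsingleton_of_isZero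
        (N.isQuad_K (p0 F) (Nv.oS V) p q (Or.inl hp))) _ _)
      y' (add_mem y.2 (DCx.sgl_mem _ _ _ _ _ (by omega)))
      (fun p q hp => @Subsingleton.elim _ (AddCommGrpCat.subsingleton_of_isZero
        (N.isQuad_K (p0 F) (ptSp x) p q (Or.inl hp))) _ _)
      (by
        show DCx.img ι c.1 = DCx.D _ (_ + _)
        rw [map_add, Nv.D_sgl_augH (p0 F) N (ptSp x) n ((n : ℤ) + 1) rfl, ht]
        exact e)
    exact ⟨V', h', hx', ⟨w, by rwa [add_sub_cancel_right] at hw⟩, hDw⟩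

end Groth.Agent.TopDesc98
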