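import Groth.Agent.TopDesc98.Nerve.Contr
import Mathlib.CategoryTheory.Limits.Shapes.WidePullbacks
import Mathlib.Topology.Category.TopCat.Limits.Basic

/-!
# The nerve of a continuous map
-/

set_option autoImplicit false

universe u

open CategoryTheory CategoryTheory.Limits Opposite TopologicalSpace

namespace Groth.Agent.TopDesc98

variable {S X : TopCat.{u}} (f : X ⟶ S)

theorem succAbove_succ_comp {p : ℕ} {i j : Fin (p + 2)} (h : i ≤ j) (k : Fin (p + 1)) :
    j.succ.succAbove (i.succAbove k) = i.castSucc.succAbove (j.succAbove k) := by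
  have h' : (i : ℕ) ≤ (j : ℕ) := h
  simp only [Fin.succAbove, Fin.lt_def, Fin.val_castSucc, Fin.val_succ]
  split_ifs <;> ext <;> simp only [Fin.val_castSucc, Fin.val_succ] at * <;> omega

/-- The fibre powers of a map, as a semi-simplicial space over the base. -/
def Nv.ofMap : Nv S where
  X p := TopCat.of {y : Fin (p + 1) → X // ∀ i, f (y i) = f (y 0)}
  a p := TopCat.ofHom ⟨fun y => f (y.1 0),
    f.hom.continuous.comp ((continuous_apply 0).comp continuous_subtype_val)⟩
  d p i := ⟨fun y => ⟨fun k => y.1 (i.succAbove k), fun k => (y.2 _).trans (y.2 _).symm⟩,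
    Continuous.subtype_mk (continuous_pi fun k =>
      (continuous_apply (A := fun _ : Fin (p + 1 + 1) => X) (i.succAbove k)).comp continuous_subtype_val) _⟩
  d_over p i y := y.2 _
  d_d p i j h y := Subtype.ext (funext fun k => congrArg y.1 (succAbove_succ_comp h k))

/-- Prepending a point. -/
def consMap (p : ℕ) :
    C({w : X × (Nv.ofMap f).X p // f w.1 = (Nv.ofMap f).a p w.2}, (Nv.ofMap f).X (p + 1)) :=
  ⟨fun w => ⟨Fin.cons (α := fun _ : Fin (p + 1 + 1) => X) w.1.1 w.1.2.1, fun i => by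
      refine Fin.cases rfl (fun k => ?_) i
      rw [Fin.cons_succ, Fin.cons_zero]
      exact (w.1.2.2 k).trans w.2.symm⟩,
    Continuous.subtype_mk (Continuous.finCons (A := fun _ : Fin (p + 1 + 1) => X)
      (f := fun w : {w : X × (Nv.ofMap f).X p // f w.1 = (Nv.ofMap f).a p w.2} => w.1.1)
      (g := fun w : {w : X × (Nv.ofMap f).X p // f w.1 = (Nv.ofMap f).a p w.2} => w.1.2.1)
      (continuous_fst.comp continuous_subtype_val)
      (continuous_subtype_val.comp (continuous_snd.comp continuous_subtype_val))) _⟩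

theorem d_zero_consMap (p : ℕ) (w : {w : X × (Nv.ofMap f).X p // f w.1 = (Nv.ofMap f).a p w.2}) :
    (Nv.ofMap f).d p 0 (consMap f p w) = w.1.2 :=
  Subtype.ext (funext fun k => by
    show Fin.cons (α := fun _ : Fin (p + 1 + 1) => X) w.1.1 w.1.2.1 ((0 : Fin (p + 2)).succAbove k) = _
    rw [Fin.succAbove_zero, Fin.cons_succ])

theorem d_succ_consMap (p : ℕ) (i : Fin (p + 2))
    (w : {w : X × (Nv.ofMap f).X (p + 1) // f w.1 = (Nv.ofMap f).a (p + 1) w.2})
    (h : f w.1.1 = (Nv.ofMap f).a p ((Nv.ofMap f).d p i w.1.2)) :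
    (Nv.ofMap f).d (p + 1) i.succ (consMap f (p + 1) w) = consMap f p ⟨(w.1.1, (Nv.ofMap f).d p i w.1.2), h⟩ :=
  Subtype.ext (funext fun k => by
    show Fin.cons (α := fun _ : Fin (p + 1 + 1 + 1) => X) w.1.1 w.1.2.1 (i.succ.succAbove k) =
      Fin.cons (α := fun _ : Fin (p + 1 + 1) => X) w.1.1 (fun k => w.1.2.1 (i.succAbove k)) k
    refine Fin.cases ?_ (fun k' => ?_) k
    · rw [Fin.succ_succAbove_zero, Fin.cons_zero, Fin.cons_zero]
    · rw [Fin.succ_succAbove_succ, Fin.cons_succ, Fin.cons_succ])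

/-- A section over a space over the base gives an extra degeneracy. -/
def Nv.contrOfSection (o : Sp S) (σ : C(o.U, X)) (hσ : ∀ t : o.U, f (σ t) = o.a t.1) :
    (Nv.ofMap f).Contr o where
  s₀ := ⟨⟨fun t => ⟨⟨(t.1, ⟨fun _ => σ t, fun _ => rfl⟩), hσ t⟩, t.2⟩,
    Continuous.subtype_mk (Continuous.subtype_mk (continuous_subtype_val.prodMk
      ((continuous_pi fun _ => σ.continuous).subtype_mk _)) _) _⟩, fun _ => rfl⟩
  h p := ⟨⟨fun z => ⟨⟨(z.1.1.1, consMap f p ⟨(σ ⟨z.1.1.1, z.2⟩, z.1.1.2), (hσ ⟨z.1.1.1, z.2⟩).trans z.1.2.symm⟩),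
      hσ ⟨z.1.1.1, z.2⟩⟩, z.2⟩,
    Continuous.subtype_mk (Continuous.subtype_mk
      ((continuous_fst.comp (continuous_subtype_val.comp continuous_subtype_val)).prodMk
        ((consMap f p).continuous.comp (Continuous.subtype_mk
          ((σ.continuous.comp ((continuous_fst.comp (continuous_subtype_val.comp continuous_subtype_val)).subtype_mk
            fun z => z.2)).prodMk
          (continuous_snd.comp (continuous_subtype_val.comp continuous_subtype_val))) _))) _) _⟩,
    fun _ => rfl⟩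
  s₀_aug := Sp.hom_ext _ _ fun _ => rfl
  h_zero p := Sp.hom_ext _ _ fun z => Subtype.ext (Prod.ext rfl (d_zero_consMap f p _))
  h_one := Sp.hom_ext _ _ fun z => Subtype.ext (Prod.ext rfl (Subtype.ext (funext fun k => by
    obtain rfl : k = 0 := Fin.fin_one_eq_zero k
    rfl)))
  h_succ p i := Sp.hom_ext _ _ fun z => Subtype.ext (Prod.ext rfl (d_succ_consMap f p i _
    ((hσ ⟨z.1.1.1, z.2⟩).trans (((Nv.ofMap f).d_over p i z.1.1.2).trans z.1.2).symm)))

/-- Cohomology of the inverse images only depends on the space over the base. -/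
theorem nonempty_H_pull_iso {T T' : TopCat.{u}} (e : T ≅ T') (a : T ⟶ S) (a' : T' ⟶ S) (h : e.hom ≫ a' = a)
    (F : CohTop.Ab S) (q : ℕ) :
    Nonempty (AddCommGrpCat.of (CohTop.H ((CohTop.pull a).obj F) q) ≅
      AddCommGrpCat.of (CohTop.H ((CohTop.pull a').obj F) q)) := by
  obtain ⟨e₁⟩ := Sp.nonempty_p0_homology_iso T a F q
  obtain ⟨e₂⟩ := Sp.nonempty_p0_homology_iso T' a' F q
  let i : (⟨T, a, ⊤⟩ : Sp S) ≅ ⟨T', a', ⊤⟩ :=
    { hom := Sp.homMk e.hom e.hom.hom.continuous.continuousOn (fun _ _ => trivial)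
        (fun x _ => ConcreteCategory.congr_hom h x)
      inv := Sp.homMk e.inv e.inv.hom.continuous.continuousOn (fun _ _ => trivial)
        (fun x _ => ConcreteCategory.congr_hom ((Iso.inv_comp_eq e).2 h.symm) x)
      hom_inv_id := Sp.hom_ext _ _ fun x => ConcreteCategory.congr_hom e.hom_inv_id x.1
      inv_hom_id := Sp.hom_ext _ _ fun x => ConcreteCategory.congr_hom e.inv_hom_id x.1 }
  exact ⟨e₁.symm ≪≫ (HomologicalComplex.homologyFunctor _ _ (q : ℤ)).mapIso
    ((Sp.cxFun (Sp.p0 F)).mapIso i.symm.op) ≪≫ e₂⟩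

/-- The fibre powers are the wide pullbacks. -/
noncomputable def Nv.ofMapIso (p : ℕ) :
    (Nv.ofMap f).X p ≅ widePullback S (fun _ : Fin (p + 1) => X) (fun _ => f) where
  hom := WidePullback.lift ((Nv.ofMap f).a p)
    (fun i => TopCat.ofHom ⟨fun y => y.1 i, (continuous_apply i).comp continuous_subtype_val⟩)
    (fun i => ConcreteCategory.hom_ext _ _ fun y => y.2 i)
  inv := TopCat.ofHom ⟨fun z => ⟨fun i => WidePullback.π (fun _ : Fin (p + 1) => f) i z, fun i =>
      (ConcreteCategory.congr_hom (WidePullback.π_arrow (fun _ : Fin (p + 1) => f) i) z).trans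
        (ConcreteCategory.congr_hom (WidePullback.π_arrow (fun _ : Fin (p + 1) => f) 0) z).symm⟩,
    (continuous_pi fun i => (WidePullback.π (fun _ : Fin (p + 1) => f) i).hom.continuous).subtype_mk _⟩
  hom_inv_id := ConcreteCategory.hom_ext _ _ fun y => Subtype.ext (funext fun i =>
    ConcreteCategory.congr_hom (WidePullback.lift_π (arrows := fun _ : Fin (p + 1) => f) ((Nv.ofMap f).a p)
      (fun i => TopCat.ofHom ⟨fun y => y.1 i, (continuous_apply i).comp continuous_subtype_val⟩)
      (fun i => ConcreteCategory.hom_ext _ _ fun y => y.2 i) i) y)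
  inv_hom_id := by
    refine WidePullback.hom_ext _ _ _ (fun i => ?_) ?_
    · rw [Category.assoc, WidePullback.lift_π, Category.id_comp]
      rfl
    · rw [Category.assoc, WidePullback.lift_base, Category.id_comp]
      refine ConcreteCategory.hom_ext _ _ fun z => ?_
      exact ConcreteCategory.congr_hom (WidePullback.π_arrow (fun _ : Fin (p + 1) => f) 0) z

/-- Local descent for a map gives the descent spectral sequence of its fibre powers. -/
theorem exists_descent_ofMap (F : CohTop.Ab S) (h : (Nv.ofMap f).LocDesc (Sp.p0 F)) :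
    ∃ (E : CohomologicalSpectralSequence AddCommGrpCat.{u} 1)
      (a : SpSeq.Abutment E (fun n : ℤ =>
        if 0 ≤ n then AddCommGrpCat.of (CohTop.H F n.toNat) else AddCommGrpCat.of PUnit.{u + 1})),
      (∀ n, a.IsFinite n) ∧ SpSeq.IsBounded E ∧
      ∀ p q : ℤ, Nonempty ((E.page 1 le_rfl).X (p, q) ≅
        (if 0 ≤ p ∧ 0 ≤ q then
          AddCommGrpCat.of (CohTop.H ((CohTop.pull
            (WidePullback.base (fun _ : Fin (p.toNat + 1) => f) :
              widePullback S (fun _ : Fin (p.toNat + 1) => X) (fun _ => f) ⟶ S)).obj F) q.toNat)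
         else AddCommGrpCat.of PUnit.{u + 1})) :=
  (Nv.ofMap f).exists_descent F h _
    (fun p q => by
      obtain ⟨e⟩ := nonempty_H_pull_iso (Nv.ofMapIso f p) ((Nv.ofMap f).a p)
        (WidePullback.base fun _ : Fin (p + 1) => f) (WidePullback.lift_base ..) F q
      exact ⟨e ≪≫ eqToIso (if_pos (c := 0 ≤ (p : ℤ) ∧ 0 ≤ (q : ℤ)) ⟨by omega, by omega⟩).symm⟩)
    (fun p q h => by
      rw [if_neg (by omega)]
      exact Nv.isZero_punit)

end Groth.Agent.TopDesc98
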