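import Groth.Agent.TopDesc98.SS1.Tot
import Mathlib.Algebra.BigOperators.Fin
import Mathlib.CategoryTheory.Preadditive.Basic

/-!
# Alternating sums of cofaces, and maps of total complexes
-/

set_option autoImplicit false

universe u v w

open CategoryTheory CategoryTheory.Limits
open scoped ZeroObject

namespace Groth.Agent.TopDesc98

section Coface

variable {C : Type u} [Category.{v} C] [Preadditive C] (A : ℕ → C)
  (δ : ∀ p, Fin (p + 2) → (A p ⟶ A (p + 1)))

/-- The alternating sum of the cofaces. -/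
def altSum (p : ℕ) : A p ⟶ A (p + 1) := ∑ i : Fin (p + 2), (-1 : ℤ) ^ (i : ℕ) • δ p i

/-- The cosimplicial identities between cofaces give a differential. -/
theorem altSum_comp (hδ : ∀ p (i j : Fin (p + 2)), i ≤ j →
      δ p i ≫ δ (p + 1) j.succ = δ p j ≫ δ (p + 1) i.castSucc) (n : ℕ) :
    altSum A δ n ≫ altSum A δ (n + 1) = 0 := by
  dsimp [altSum]
  simp only [Preadditive.sum_comp, Preadditive.comp_sum]
  rw [Finset.sum_comm, ← Finset.sum_product']
  let P := Fin (n + 2) × Fin (n + 3)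
  let S : Finset P := {ij : P | (ij.2 : ℕ) ≤ (ij.1 : ℕ)}
  rw [Finset.univ_product_univ, ← Finset.sum_add_sum_compl S, ← eq_neg_iff_add_eq_zero,
    ← Finset.sum_neg_distrib]
  let φ : ∀ ij : P, ij ∈ S → P := fun ij hij =>
    (Fin.castLT ij.2 (lt_of_le_of_lt (Finset.mem_filter.mp hij).right (Fin.is_lt ij.1)), ij.1.succ)
  apply Finset.sum_bij φ
  · intro ij hij
    simp_rw [S, φ, Finset.compl_filter, Finset.mem_filter_univ, Fin.val_succ,
      Fin.val_castLT] at hij ⊢
    lia
  · rintro ⟨i, j⟩ hij ⟨i', j'⟩ hij' h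
    rw [Prod.mk_inj]
    exact ⟨by simpa [φ] using! congr_arg Prod.snd h,
      by simpa [φ, Fin.castSucc_castLT] using! congr_arg Fin.castSucc (congr_arg Prod.fst h)⟩
  · rintro ⟨i', j'⟩ hij'
    simp_rw [S, Finset.compl_filter, Finset.mem_filter_univ, not_le] at hij'
    refine ⟨(j'.pred <| ?_, Fin.castSucc i'), ?_, ?_⟩
    · rintro rfl
      simp only [Fin.val_zero, not_lt_zero] at hij'
    · simpa [S] using! Nat.le_sub_one_of_lt hij'
    · simp only [φ, Fin.castLT_castSucc, Fin.succ_pred]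
  · rintro ⟨i, j⟩ hij
    dsimp only [φ]
    simp only [Preadditive.zsmul_comp, Preadditive.comp_zsmul, smul_smul, ← neg_smul]
    congr 1
    · simp only [Fin.val_succ, Fin.val_castLT, pow_add, pow_one, mul_neg, neg_neg, mul_one]
      ring
    · rw [hδ _ _ _ (show Fin.castLT j (lt_of_le_of_lt (Finset.mem_filter.mp hij).right i.is_lt) ≤ i from
        (Finset.mem_filter.mp hij).right)]
      rw [Fin.castSucc_castLT]

/-- The terms, extended by zero to negative degrees. -/
noncomputable def altX [HasZeroObject C] : ℤ → C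
  | Int.ofNat p => A p
  | Int.negSucc _ => 0

/-- The differentials in all degrees. -/
noncomputable def altD [HasZeroObject C] : ∀ p : ℤ, altX A p ⟶ altX A (p + 1)
  | Int.ofNat p => altSum A δ p
  | Int.negSucc _ => 0

theorem altD_altD [HasZeroObject C] (hδ : ∀ p (i j : Fin (p + 2)), i ≤ j →
      δ p i ≫ δ (p + 1) j.succ = δ p j ≫ δ (p + 1) i.castSucc) :
    ∀ p : ℤ, altD A δ p ≫ altD A δ (p + 1) = 0
  | Int.ofNat p => altSum_comp A δ hδ p
  | Int.negSucc _ => zero_comp

/-- The complex of alternating sums. -/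
noncomputable def altCx [HasZeroObject C] (hδ : ∀ p (i j : Fin (p + 2)), i ≤ j →
      δ p i ≫ δ (p + 1) j.succ = δ p j ≫ δ (p + 1) i.castSucc) : CochainComplex C ℤ :=
  CochainComplex.of (altX A) (altD A δ) (altD_altD A δ hδ)

theorem altCx_d [HasZeroObject C] (hδ : ∀ p (i j : Fin (p + 2)), i ≤ j →
      δ p i ≫ δ (p + 1) j.succ = δ p j ≫ δ (p + 1) i.castSucc) (p : ℕ) :
    (altCx A δ hδ).d (p : ℤ) ((p : ℤ) + 1) = altSum A δ p := by
  dsimp [altCx]
  exact CochainComplex.of_d _ _ _

variable {A} {B : ℕ → C} {δ}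

/-- A map of the terms, extended by zero. -/
noncomputable def altF [HasZeroObject C] (f : ∀ p, A p ⟶ B p) : ∀ p : ℤ, altX A p ⟶ altX B p
  | Int.ofNat p => f p
  | Int.negSucc _ => 0

/-- A map commuting with cofaces gives a map of complexes. -/
noncomputable def altMap [HasZeroObject C] {δ' : ∀ p, Fin (p + 2) → (B p ⟶ B (p + 1))}
    (hδ : ∀ p (i j : Fin (p + 2)), i ≤ j → δ p i ≫ δ (p + 1) j.succ = δ p j ≫ δ (p + 1) i.castSucc)
    (hδ' : ∀ p (i j : Fin (p + 2)), i ≤ j → δ' p i ≫ δ' (p + 1) j.succ = δ' p j ≫ δ' (p + 1) i.castSucc)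
    (f : ∀ p, A p ⟶ B p) (hf : ∀ p i, f p ≫ δ' p i = δ p i ≫ f (p + 1)) :
    altCx A δ hδ ⟶ altCx B δ' hδ' where
  f := altF f
  comm' i j hij := by
    obtain rfl : i + 1 = j := hij
    cases i with
    | ofNat p =>
      show f p ≫ (altCx B δ' hδ').d (p : ℤ) ((p : ℤ) + 1) = (altCx A δ hδ).d (p : ℤ) ((p : ℤ) + 1) ≫ f (p + 1)
      rw [altCx_d, altCx_d]
      have key : f p ≫ altSum B δ' p = altSum A δ p ≫ f (p + 1) := by
        simp only [altSum, Preadditive.comp_sum, Preadditive.sum_comp, Preadditive.comp_zsmul,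
          Preadditive.zsmul_comp, hf]
      exact key
    | negSucc p => exact (isZero_zero C).eq_of_src _ _

end Coface

namespace DCx

theorem D_natural {K L : DCx.{u}} (φ : K ⟶ L) (x : ∀ p q : ℤ, (K.X p).X q) :
    D L (fun p q => ((φ.f p).f q).hom (x p q)) = fun p q => ((φ.f p).f q).hom (D K x p q) := by
  refine funext fun p => funext fun q => ?_
  simp only [D_apply, map_add, map_zsmul]
  have h₁ := ConcreteCategory.congr_hom ((φ.f p).comm (q - 1) q) (x p (q - 1))
  have h₂ := ConcreteCategory.congr_hom (HomologicalComplex.congr_hom (φ.comm (p - 1) p) q) (x (p - 1) q)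
  exact congrArg₂ (fun a b => (p.negOnePow : ℤ) • a + b) h₁ h₂

/-- A map of double complexes gives a map of the steps of the total complexes. -/
noncomputable def stepMap {K L : DCx.{u}} (φ : K ⟶ L) (j : EInt) : stepCx K j ⟶ stepCx L j where
  f n := AddCommGrpCat.ofHom (AddMonoidHom.mk'
    (fun x : stepGrp K j n => (⟨fun p q => ((φ.f p).f q).hom (x.1 p q), fun p q h =>
      (congrArg _ (x.2 p q h)).trans (map_zero _)⟩ : stepGrp L j n))
    fun x y => Subtype.ext (funext fun p => funext fun q => map_add _ _ _))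
  comm' a b hab := by
    obtain rfl : a + 1 = b := hab
    refine ConcreteCategory.hom_ext _ _ fun x => ?_
    refine Subtype.ext ((stepCx_d L j a _).trans ((D_natural φ x.1).trans ?_))
    exact congrArg (fun y : ∀ p q : ℤ, (K.X p).X q => fun p q => ((φ.f p).f q).hom (y p q)) (stepCx_d K j a x).symm

theorem stepMap_id (K : DCx.{u}) (j : EInt) : stepMap (𝟙 K) j = 𝟙 (stepCx K j) := by
  ext n x
  rfl

theorem stepMap_comp {K L M : DCx.{u}} (φ : K ⟶ L) (ψ : L ⟶ M) (j : EInt) :
    stepMap (φ ≫ ψ) j = stepMap φ j ≫ stepMap ψ j := by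
  ext n x
  rfl

end DCx

end Groth.Agent.TopDesc98
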