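import Groth.Agent.TopDesc98.Nerve.Desc

/-!
# Extra degeneracies give local descent
-/

set_option autoImplicit false

universe u

open CategoryTheory CategoryTheory.Limits Opposite TopologicalSpace

namespace Groth.Agent.TopDesc98

namespace Nv

open Sp

variable {S : TopCat.{u}} (N : Nv S)

/-- An extra degeneracy over a space over the base. -/
structure Contr (o : Sp S) : Type u where
  /-- The section. -/
  s₀ : o ⟶ N.bc 0 o
  /-- The extra degeneracies. -/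
  h : ∀ p, N.bc p o ⟶ N.bc (p + 1) o
  s₀_aug : s₀ ≫ N.bcAug o = 𝟙 o
  h_zero : ∀ p, h p ≫ N.bcFace p 0 o = 𝟙 _
  h_one : h 0 ≫ N.bcFace 0 1 o = N.bcAug o ≫ s₀
  h_succ : ∀ (p : ℕ) (i : Fin (p + 2)), h (p + 1) ≫ N.bcFace (p + 1) i.succ o = N.bcFace p i o ≫ h p

variable {N} {o : Sp S} (C : N.Contr o) (Q₀ : Psh S)

theorem Contr.homotopy (p : ℕ) :
    altSum (N.lvl Q₀ o) (N.coface Q₀ o) (p + 1) ≫ (cxFun Q₀).map (C.h (p + 1)).op +
      (cxFun Q₀).map (C.h p).op ≫ altSum (N.lvl Q₀ o) (N.coface Q₀ o) p = 𝟙 _ := by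
  rw [altSum, altSum, Preadditive.sum_comp, Preadditive.comp_sum, Fin.sum_univ_succ, add_assoc,
    ← Finset.sum_add_distrib]
  refine (congrArg₂ (· + ·) ?_ (Finset.sum_eq_zero fun i _ => ?_)).trans (add_zero _)
  · dsimp only [coface]
    rw [Fin.val_zero, pow_zero, one_zsmul, ← (cxFun Q₀).map_comp, ← op_comp, C.h_zero, op_id,
      (cxFun Q₀).map_id]
  · dsimp only [coface]
    rw [Preadditive.zsmul_comp, Preadditive.comp_zsmul, ← (cxFun Q₀).map_comp, ← (cxFun Q₀).map_comp,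
      ← op_comp, ← op_comp, C.h_succ, Fin.val_succ, pow_succ, mul_neg_one, neg_smul, neg_add_cancel]

theorem Contr.homotopy_zero :
    altSum (N.lvl Q₀ o) (N.coface Q₀ o) 0 ≫ (cxFun Q₀).map (C.h 0).op +
      (cxFun Q₀).map C.s₀.op ≫ (cxFun Q₀).map (N.bcAug o).op = 𝟙 _ := by
  rw [altSum, Fin.sum_univ_two]
  simp only [Fin.val_zero, pow_zero, Fin.val_one, pow_one, one_zsmul, neg_smul, coface, Preadditive.add_comp,
    Preadditive.neg_comp, ← (cxFun Q₀).map_comp, ← op_comp, C.h_zero, C.h_one, op_id, (cxFun Q₀).map_id]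
  exact neg_add_cancel_right _ _

theorem Contr.homotopy_apply (m : ℕ) (q : ℤ) (x : (N.lvl Q₀ o (m + 1)).X q)
    (hx : ((altSum (N.lvl Q₀ o) (N.coface Q₀ o) (m + 1)).f q).hom x = 0) :
    ((altSum (N.lvl Q₀ o) (N.coface Q₀ o) m).f q).hom ((((cxFun Q₀).map (C.h m).op).f q).hom x) = x := by
  have e := ConcreteCategory.congr_hom (HomologicalComplex.congr_hom (C.homotopy Q₀ m) q) x
  refine Eq.trans ?_ e
  show _ = (((cxFun Q₀).map (C.h (m + 1)).op).f q).hom (((altSum (N.lvl Q₀ o) (N.coface Q₀ o) (m + 1)).f q).hom x) + _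
  rw [hx, map_zero, zero_add]
  rfl

theorem Contr.homotopy_zero_apply (n : ℤ) (x : (N.lvl Q₀ o 0).X n)
    (hx : ((altSum (N.lvl Q₀ o) (N.coface Q₀ o) 0).f n).hom x = 0) :
    (((cxFun Q₀).map (N.bcAug o).op).f n).hom ((((cxFun Q₀).map C.s₀.op).f n).hom x) = x := by
  have e := ConcreteCategory.congr_hom (HomologicalComplex.congr_hom (C.homotopy_zero Q₀) n) x
  refine Eq.trans ?_ e
  show _ = (((cxFun Q₀).map (C.h 0).op).f n).hom (((altSum (N.lvl Q₀ o) (N.coface Q₀ o) 0).f n).hom x) + _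
  rw [hx, map_zero, zero_add]
  rfl

theorem coface_aug (i : Fin 2) :
    (cxFun Q₀).map (N.bcAug o).op ≫ N.coface Q₀ o 0 i =
      (cxFun Q₀).map (N.bcAug o).op ≫ N.coface Q₀ o 0 0 := by
  dsimp only [coface]
  rw [← (cxFun Q₀).map_comp, ← (cxFun Q₀).map_comp, ← op_comp, ← op_comp, N.bcAug_bcFace i 0 o]

theorem aug_altSum (N : Nv S) (o : Sp S) :
    (cxFun Q₀).map (N.bcAug o).op ≫ altSum (N.lvl Q₀ o) (N.coface Q₀ o) 0 = 0 := by
  rw [altSum, Fin.sum_univ_two]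
  simp only [Fin.val_zero, pow_zero, Fin.val_one, pow_one, one_zsmul, neg_smul, Preadditive.comp_add,
    Preadditive.comp_neg, coface_aug Q₀ (1 : Fin 2), add_neg_cancel]

variable (N) in
/-- The augmentation of the double complex in all degrees. -/
noncomputable def augH (o : Sp S) (q : ℤ) : ((cxFun Q₀).obj (op o)).X q →+ ((N.K Q₀ o).X 0).X q :=
  (((cxFun Q₀).map (N.bcAug o).op).f q).hom

theorem δ_augH (N : Nv S) (o : Sp S) (q : ℤ) (z : ((cxFun Q₀).obj (op o)).X q) :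
    (((N.K Q₀ o).d 0 1).f q).hom (N.augH Q₀ o q z) = 0 := by
  refine (ConcreteCategory.congr_hom (HomologicalComplex.congr_hom (N.K_d Q₀ o 0) q) (N.augH Q₀ o q z)).trans ?_
  exact ConcreteCategory.congr_hom (HomologicalComplex.congr_hom (aug_altSum Q₀ N o) q) z

theorem D_sgl_augH (N : Nv S) (o : Sp S) (q q₁ : ℤ) (hq : q + 1 = q₁) (z : ((cxFun Q₀).obj (op o)).X q) :
    DCx.D (N.K Q₀ o) (DCx.sgl (N.K Q₀ o) 0 q (N.augH Q₀ o q z)) =
      DCx.sgl (N.K Q₀ o) 0 q₁ (N.augH Q₀ o q₁ ((((cxFun Q₀).obj (op o)).d q q₁).hom z)) := by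
  rw [DCx.D_sgl (N.K Q₀ o) 0 q 1 q₁ rfl hq, δ_augH, map_zero, add_zero, Int.negOnePow_zero, Units.val_one,
    one_zsmul]
  exact congrArg _ (ConcreteCategory.congr_hom (((cxFun Q₀).map (N.bcAug o).op).comm q q₁) z)

include C in
/-- With an extra degeneracy, cocycles come from the base. -/
theorem Contr.exists_decomp : ∀ (m : ℕ) (n : ℤ) (c : DCx.stepGrp (N.K Q₀ o) ⊤ n),
    DCx.D (N.K Q₀ o) c.1 = 0 → (∀ p q : ℤ, (m : ℤ) < p → c.1 p q = 0) →
    ∃ y : DCx.stepGrp (N.K Q₀ o) ⊤ (n - 1), ∃ z : ((cxFun Q₀).obj (op o)).X n,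
      (((cxFun Q₀).obj (op o)).d n (n + 1)).hom z = 0 ∧
      c.1 = DCx.D (N.K Q₀ o) y.1 + DCx.sgl (N.K Q₀ o) 0 n (N.augH Q₀ o n z) := by
  intro m
  induction m with
  | zero =>
    intro n c hc hm
    let z : ((cxFun Q₀).obj (op o)).X n := (((cxFun Q₀).map C.s₀.op).f n).hom (c.1 0 n)
    have hδ : (((N.K Q₀ o).d 0 1).f n).hom (c.1 0 n) = 0 := by
      have e := congrFun (congrFun hc 1) n
      rw [DCx.D_apply, hm 1 (n - 1) (by simp), map_zero, smul_zero, zero_add] at e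
      exact e
    have hd : (((N.K Q₀ o).X 0).d n (n + 1)).hom (c.1 0 n) = 0 := by
      have e := congrFun (congrFun hc 0) (n + 1)
      have h00 : c.1 (0 - 1) (n + 1) = 0 := @Subsingleton.elim _ (AddCommGrpCat.subsingleton_of_isZero
        (N.isQuad_K Q₀ o (0 - 1) (n + 1) (Or.inl (by omega)))) _ _
      rw [DCx.D_apply, h00,
        map_zero, add_zero, Int.negOnePow_zero, Units.val_one, one_zsmul] at e
      obtain hn : n + 1 - 1 = n := by omega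
      have key : ∀ (q : ℤ), q = n → (((N.K Q₀ o).X 0).d q (n + 1)).hom (c.1 0 q) = 0 →
          (((N.K Q₀ o).X 0).d n (n + 1)).hom (c.1 0 n) = 0 := fun q hq h => by subst hq; exact h
      exact key _ hn e
    have h0 : N.augH Q₀ o n z = c.1 0 n := by
      have hδ' : ((altSum (N.lvl Q₀ o) (N.coface Q₀ o) 0).f n).hom (c.1 0 n) = 0 :=
        (ConcreteCategory.congr_hom (HomologicalComplex.congr_hom (N.K_d Q₀ o 0) n) (c.1 0 n)).symm.trans hδ
      refine Eq.trans ?_ (C.homotopy_zero_apply Q₀ n (c.1 0 n) hδ')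
      rfl
    refine ⟨0, z, ?_, ?_⟩
    · refine (ConcreteCategory.congr_hom (((cxFun Q₀).map C.s₀.op).comm n (n + 1)) (c.1 0 n)).trans ?_
      exact (congrArg _ hd).trans (map_zero (((cxFun Q₀).map C.s₀.op).f (n + 1)).hom)
    · rw [AddSubgroup.coe_zero, map_zero, zero_add, h0]
      refine funext fun p => funext fun q => ?_
      by_cases h : p = 0 ∧ q = n
      · obtain ⟨rfl, rfl⟩ := h
        rw [DCx.sgl_self]
      · rw [DCx.sgl_ne _ 0 n _ p q (not_and_or.1 h)]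
        rcases lt_trichotomy p 0 with hp | hp | hp
        · exact @Subsingleton.elim _ (AddCommGrpCat.subsingleton_of_isZero (N.isQuad_K Q₀ o p q (Or.inl hp))) _ _
        · exact c.2 p q (Or.inl fun e => h ⟨hp, by omega⟩)
        · exact hm p q (by simpa using hp)
  | succ m ih =>
    intro n c hc hm
    let q : ℤ := n - ((m + 1 : ℕ) : ℤ)
    have hδ : (((N.K Q₀ o).d ((m + 1 : ℕ) : ℤ) ((m : ℤ) + 1 + 1)).f q).hom (c.1 ((m + 1 : ℕ) : ℤ) q) = 0 := by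
      have e := congrFun (congrFun hc ((m : ℤ) + 1 + 1)) q
      rw [DCx.D_apply, hm _ (q - 1) (by push_cast; omega), map_zero, smul_zero, zero_add] at e
      have key : ∀ p : ℤ, p = (m : ℤ) + 1 → (((N.K Q₀ o).d p ((m : ℤ) + 1 + 1)).f q).hom (c.1 p q) = 0 →
          (((N.K Q₀ o).d ((m + 1 : ℕ) : ℤ) ((m : ℤ) + 1 + 1)).f q).hom (c.1 ((m + 1 : ℕ) : ℤ) q) = 0 :=
        fun p hp h => by subst hp; exact h
      exact key _ (by omega) e
    let w : ((N.K Q₀ o).X (m : ℤ)).X q := (((cxFun Q₀).map (C.h m).op).f q).hom (c.1 ((m + 1 : ℕ) : ℤ) q)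
    have hw : (((N.K Q₀ o).d (m : ℤ) ((m + 1 : ℕ) : ℤ)).f q).hom w = c.1 ((m + 1 : ℕ) : ℤ) q := by
      have h1 : ((altSum (N.lvl Q₀ o) (N.coface Q₀ o) (m + 1)).f q).hom (c.1 ((m + 1 : ℕ) : ℤ) q) = 0 :=
        (ConcreteCategory.congr_hom (HomologicalComplex.congr_hom (N.K_d Q₀ o (m + 1)) q) _).symm.trans hδ
      refine (ConcreteCategory.congr_hom (HomologicalComplex.congr_hom (N.K_d Q₀ o m) q) w).trans ?_
      exact C.homotopy_apply Q₀ m q (c.1 ((m + 1 : ℕ) : ℤ) q) h1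
    let y₀ : DCx.stepGrp (N.K Q₀ o) ⊤ (n - 1) := ⟨DCx.sgl (N.K Q₀ o) m q w, DCx.sgl_mem _ _ _ w _ (by omega)⟩
    let c' : DCx.stepGrp (N.K Q₀ o) ⊤ n := c - ⟨DCx.D (N.K Q₀ o) y₀.1, by
      have := DCx.D_mem (N.K Q₀ o) y₀.2
      rwa [show n - 1 + 1 = n by omega] at this⟩
    obtain ⟨y, z, hz, e⟩ := ih n c' (by
        show DCx.D (N.K Q₀ o) (c.1 - DCx.D (N.K Q₀ o) y₀.1) = 0
        rw [map_sub, hc, DCx.D_D, sub_zero]) (fun p' q' hp => by
        show c.1 p' q' - DCx.D (N.K Q₀ o) (DCx.sgl (N.K Q₀ o) m q w) p' q' = 0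
        rw [DCx.D_sgl (N.K Q₀ o) m q ((m + 1 : ℕ) : ℤ) (q + 1) (by push_cast; rfl) rfl, Pi.add_apply, Pi.add_apply,
          DCx.sgl_ne _ _ _ _ p' q' (Or.inl (ne_of_gt hp)), zero_add, hw]
        by_cases h : p' = ((m + 1 : ℕ) : ℤ) ∧ q' = q
        · obtain ⟨rfl, rfl⟩ := h
          rw [DCx.sgl_self, sub_self]
        · rw [DCx.sgl_ne _ _ _ _ p' q' (not_and_or.1 h), sub_zero]
          by_cases h' : p' = ((m + 1 : ℕ) : ℤ)
          · exact c.2 p' q' (Or.inl fun e => h ⟨h', by omega⟩)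
          · exact hm p' q' (by push_cast; omega))
    refine ⟨y₀ + y, z, hz, ?_⟩
    rw [AddSubgroup.coe_add, map_add, add_assoc, ← e]
    show c.1 = _ + (c.1 - _)
    rw [add_sub_cancel]

include C in
theorem Contr.decomp (n : ℤ) (c : DCx.stepGrp (N.K Q₀ o) ⊤ n) (hc : DCx.D (N.K Q₀ o) c.1 = 0) :
    ∃ y : DCx.stepGrp (N.K Q₀ o) ⊤ (n - 1), ∃ z : ((cxFun Q₀).obj (op o)).X n,
      (((cxFun Q₀).obj (op o)).d n (n + 1)).hom z = 0 ∧
      c.1 = DCx.D (N.K Q₀ o) y.1 + DCx.sgl (N.K Q₀ o) 0 n (N.augH Q₀ o n z) :=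
  C.exists_decomp Q₀ n.toNat n c hc fun p q hp => by
    by_cases hpq : p + q = n
    · exact @Subsingleton.elim _ (AddCommGrpCat.subsingleton_of_isZero (N.isQuad_K Q₀ o p q (by omega))) _ _
    · exact c.2 p q (Or.inl hpq)

theorem map_bcAug_bcMap (N : Nv S) {o' o : Sp S} (f : o' ⟶ o) :
    (cxFun Q₀).map (N.bcAug o).op ≫ (cxFun Q₀).map (N.bcMap 0 f).op =
      (cxFun Q₀).map f.op ≫ (cxFun Q₀).map (N.bcAug o').op := by
  rw [← (cxFun Q₀).map_comp, ← (cxFun Q₀).map_comp, ← op_comp, ← op_comp, N.bcAug_bcMap]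

theorem aug_eq_sgl (N : Nv S) (o : Sp S) (t : Q₀.obj (op o)) :
    (N.aug Q₀ o t).1 = DCx.sgl (N.K Q₀ o) 0 0 (N.augH Q₀ o 0 (((unit Q₀).app (op o)).hom t)) :=
  congrArg (DCx.sgl (N.K Q₀ o) 0 0) (ConcreteCategory.congr_hom ((unit Q₀).naturality (N.bcAug o).op) t)

include C in
theorem Contr.unit_eq_zero_of_aug (t : Q₀.obj (op o)) (ht : N.aug Q₀ o t = 0) :
    ((unit Q₀).app (op o)).hom t = 0 := by
  have e : N.augH Q₀ o 0 (((unit Q₀).app (op o)).hom t) = 0 := by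
    rw [← DCx.sgl_self (N.K Q₀ o) 0 0 (N.augH Q₀ o 0 (((unit Q₀).app (op o)).hom t)), ← aug_eq_sgl, ht]
    rfl
  have h : (cxFun Q₀).map (N.bcAug o).op ≫ (cxFun Q₀).map C.s₀.op = 𝟙 _ := by
    rw [← (cxFun Q₀).map_comp, ← op_comp, C.s₀_aug, op_id, (cxFun Q₀).map_id]
  refine (ConcreteCategory.congr_hom (HomologicalComplex.congr_hom h 0) (((unit Q₀).app (op o)).hom t)).symm.trans ?_
  exact (congrArg (((cxFun Q₀).map C.s₀.op).f 0).hom e).trans (map_zero _)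

variable (N) in
/-- Extra degeneracies near every point give local descent. -/
theorem locDesc_of_contr
    (hC : ∀ (V : Opens S) (x : S), x ∈ V → ∃ (V' : Opens S) (_ : V' ≤ V), x ∈ V' ∧ Nonempty (N.Contr (oS V'))) :
    N.LocDesc Q₀ where
  inj V s hs x hx := by
    obtain ⟨V₁, h₁, hx₁, ⟨C⟩⟩ := hC V x hx
    have h0 : N.aug Q₀ (oS V₁) ((Q₀.map (oI h₁).op).hom s) = 0 := by
      rw [← N.tr_aug Q₀ h₁, hs, map_zero]
    obtain ⟨V₂, h₂, hx₂, e⟩ := unit_eq_zero Q₀ (oS V₁) _ (C.unit_eq_zero_of_aug Q₀ _ h0) x hx₁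
    exact ⟨V₂, h₂.trans h₁, hx₂, (map_map Q₀ (oI h₁) (oI h₂) (oI (h₂.trans h₁)) (fun _ => rfl) s).symm.trans e⟩
  zero V c hc x hx := by
    obtain ⟨V₁, h₁, hx₁, ⟨C⟩⟩ := hC V x hx
    have hc₁ : DCx.D (N.K Q₀ (oS V₁)) (N.tr Q₀ 0 h₁ c).1 = 0 :=
      (DCx.D_natural (N.Kmap Q₀ (oI h₁)) c.1).trans
        (funext fun p => funext fun q => (congrArg _ (congrFun (congrFun hc p) q)).trans (map_zero _))
    obtain ⟨y, z, hz, e⟩ := C.decomp Q₀ 0 _ hc₁
    have hy : y = 0 := Subtype.ext (funext fun p => funext fun q => by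
      by_cases h : p + q = 0 - 1
      · exact @Subsingleton.elim _ (AddCommGrpCat.subsingleton_of_isZero (N.isQuad_K Q₀ _ p q (by omega))) _ _
      · exact y.2 p q (Or.inl h))
    rw [hy, AddSubgroup.coe_zero, map_zero, zero_add] at e
    have hz' : ((diff Q₀ 0).app (op (oS V₁))).hom z = 0 :=
      (ConcreteCategory.congr_hom (congrArg (fun t : (cx Q₀).X _ ⟶ _ => t.app (op (oS V₁))) (cx_d Q₀ 0)) z).symm.trans hz
    obtain ⟨V₂, h₂, hx₂, t, ht⟩ := diff_exact_zero Q₀ (oS V₁) z hz' x hx₁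
    refine ⟨V₂, h₂.trans h₁, hx₂, t, Subtype.ext ?_⟩
    rw [aug_eq_sgl]
    refine Eq.trans ?_ (funext fun p => funext fun q => ConcreteCategory.congr_hom (HomologicalComplex.congr_hom
      (HomologicalComplex.congr_hom (N.Kmap_comp Q₀ (oI h₂) (oI h₁)) p) q) (c.1 p q)).symm
    refine Eq.trans ?_ (congrArg (fun (f : ∀ p q : ℤ, ((N.K Q₀ (oS V₁)).X p).X q) =>
      fun p q => (((N.Kmap Q₀ (oI h₂)).f p).f q).hom (f p q)) e).symm
    refine Eq.trans (congrArg (DCx.sgl _ 0 0) ?_) (N.sgl_natural Q₀ (oI h₂) 0 0 _).symm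
    refine (congrArg (N.augH Q₀ (oS V₂) 0) ht).trans ?_
    exact ((ConcreteCategory.congr_hom (HomologicalComplex.congr_hom
      (map_bcAug_bcMap Q₀ N (oI h₂)) 0) z)).symm
  succ n V c hc x hx := by
    obtain ⟨V₁, h₁, hx₁, ⟨C⟩⟩ := hC V x hx
    have hc₁ : DCx.D (N.K Q₀ (oS V₁)) (N.tr Q₀ _ h₁ c).1 = 0 :=
      (DCx.D_natural (N.Kmap Q₀ (oI h₁)) c.1).trans
        (funext fun p => funext fun q => (congrArg _ (congrFun (congrFun hc p) q)).trans (map_zero _))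
    obtain ⟨y, z, hz, e⟩ := C.decomp Q₀ _ _ hc₁
    have hz' : ((diff Q₀ (n + 1)).app (op (oS V₁))).hom z = 0 :=
      (ConcreteCategory.congr_hom (congrArg (fun t : (cx Q₀).X _ ⟶ _ => t.app (op (oS V₁))) (cx_d Q₀ (n + 1))) z).symm.trans hz
    obtain ⟨V₂, h₂, hx₂, t, ht⟩ := diff_exact Q₀ n (oS V₁) z hz' x hx₁
    let y₁ : DCx.stepGrp (N.K Q₀ (oS V₂)) ⊤ n :=
      ⟨(N.tr Q₀ _ h₂ y).1 + DCx.sgl (N.K Q₀ (oS V₂)) 0 n (N.augH Q₀ (oS V₂) n t),
        add_mem (fun p q h => (N.tr Q₀ _ h₂ y).2 p q (h.imp_left fun h => by omega))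
          (DCx.sgl_mem _ _ _ _ _ (zero_add _))⟩
    refine ⟨V₂, h₂.trans h₁, hx₂, y₁, ?_⟩
    show DCx.D (N.K Q₀ (oS V₂)) (_ + _) = _
    rw [map_add, D_sgl_augH Q₀ N (oS V₂) n ((n : ℤ) + 1) rfl]
    refine Eq.trans ?_ (funext fun p => funext fun q => ConcreteCategory.congr_hom (HomologicalComplex.congr_hom
      (HomologicalComplex.congr_hom (N.Kmap_comp Q₀ (oI h₂) (oI h₁)) p) q) (c.1 p q)).symm
    refine Eq.trans ?_ (congrArg (fun (f : ∀ p q : ℤ, ((N.K Q₀ (oS V₁)).X p).X q) =>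
      fun p q => (((N.Kmap Q₀ (oI h₂)).f p).f q).hom (f p q)) e).symm
    refine Eq.trans ?_ (funext fun p => funext fun q => (map_add _ _ _).symm)
    refine congrArg₂ (· + ·) (DCx.D_natural (N.Kmap Q₀ (oI h₂)) y.1) ?_
    refine Eq.trans (congrArg (DCx.sgl _ 0 _) ?_) (N.sgl_natural Q₀ (oI h₂) 0 _ _).symm
    refine (congrArg (N.augH Q₀ (oS V₂) _)
      ((ConcreteCategory.congr_hom (congrArg (fun t : (cx Q₀).X _ ⟶ _ => t.app (op (oS V₂))) (cx_d Q₀ n)) t).trans ht)).trans ?_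
    exact ((ConcreteCategory.congr_hom (HomologicalComplex.congr_hom
      (map_bcAug_bcMap Q₀ N (oI h₂)) ((n : ℤ) + 1)) z)).symm

end Nv

end Groth.Agent.TopDesc98
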