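import Groth.Agent.TopDesc98.Nerve.Total

/-!
# Local descent gives the descent spectral sequence
-/

set_option autoImplicit false
set_option linter.style.haveILetI false

universe u

open CategoryTheory CategoryTheory.Limits Opposite TopologicalSpace

namespace Groth.Agent.TopDesc98

/-- The inverse image along the identity. -/
theorem nonempty_pull_id_iso {S : TopCat.{u}} (F : CohTop.Ab S) : Nonempty ((CohTop.pull (𝟙 S)).obj F ≅ F) := by
  let e : CohTop.push (𝟙 S) ≅ 𝟭 (CohTop.Ab S) := NatIso.ofComponents (fun G => Iso.refl _) fun _ => rfl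
  exact ⟨(((TopCat.Sheaf.pullbackPushforwardAdjunction AddCommGrpCat.{u} (𝟙 S)).ofNatIsoRight e).leftAdjointUniq
    Adjunction.id).app F⟩

namespace Nv

open Sp

variable {S : TopCat.{u}} (N : Nv S) (Q₀ : Psh S)

/-- The augmented total complex is exact near each point. -/
structure LocDesc : Prop where
  inj : ∀ (V : Opens S) (s : Q₀.obj (op (oS V))), N.aug Q₀ (oS V) s = 0 → ∀ x ∈ V,
    ∃ (V' : Opens S) (h : V' ≤ V), x ∈ V' ∧ (Q₀.map (oI h).op).hom s = 0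
  zero : ∀ (V : Opens S) (c : DCx.stepGrp (N.K Q₀ (oS V)) ⊤ 0), DCx.D (N.K Q₀ (oS V)) c.1 = 0 → ∀ x ∈ V,
    ∃ (V' : Opens S) (h : V' ≤ V), x ∈ V' ∧ ∃ t, N.aug Q₀ (oS V') t = N.tr Q₀ 0 h c
  succ : ∀ (n : ℕ) (V : Opens S) (c : DCx.stepGrp (N.K Q₀ (oS V)) ⊤ ((n : ℤ) + 1)),
    DCx.D (N.K Q₀ (oS V)) c.1 = 0 → ∀ x ∈ V, ∃ (V' : Opens S) (h : V' ≤ V), x ∈ V' ∧
      ∃ y : DCx.stepGrp (N.K Q₀ (oS V')) ⊤ n,
        DCx.D (N.K Q₀ (oS V')) y.1 = (N.tr Q₀ ((n : ℤ) + 1) h c).1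

variable {Q₀}

theorem D_eq_zero_of_d (o : Sp S) (n : ℤ) (c : DCx.stepGrp (N.K Q₀ o) ⊤ n)
    (h : (((N.totFun Q₀).obj (op o)).d n (n + 1)).hom c = 0) : DCx.D (N.K Q₀ o) c.1 = 0 :=
  (DCx.stepCx_d (N.K Q₀ o) ⊤ n c).symm.trans
    (congrArg (fun z : DCx.stepGrp (N.K Q₀ o) ⊤ (n + 1) => z.1) h)

theorem totCx_exactAt (hLD : N.LocDesc Q₀) (n : ℕ) : (N.totCx Q₀).ExactAt ((n : ℤ) + 1) := by
  rw [(N.totCx Q₀).exactAt_iff' (n : ℤ) ((n : ℤ) + 1) ((n : ℤ) + 1 + 1) (by simp) (by simp)]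
  refine exact_of_near _ fun V c hc x hx => ?_
  obtain ⟨V', h, hxV, y, hy⟩ := hLD.succ n V c (N.D_eq_zero_of_d (oS V) _ c hc) x hx
  exact ⟨V', h, hxV, y, Subtype.ext ((DCx.stepCx_d (N.K Q₀ (oS V')) ⊤ (n : ℤ) y).trans hy)⟩

/-- Under local descent the total complex computes cohomology of the base. -/
theorem nonempty_total_homology_iso (hQ : TopCat.Presheaf.IsSheaf (res Q₀ S (𝟙 S))) (hLD : N.LocDesc Q₀) (q : ℕ) :
    Nonempty ((DCx.stepCx (N.K Q₀ (oS ⊤)) ⊤).homology (q : ℤ) ≅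
      AddCommGrpCat.of (CohTop.H (⟨res Q₀ S (𝟙 S), hQ⟩ : CohTop.Ab S) q)) := by
  let F : CohTop.Ab S := ⟨res Q₀ S (𝟙 S), hQ⟩
  let ε : F ⟶ (N.totCx Q₀).X 0 :=
    ⟨{ app := fun V => AddCommGrpCat.ofHom (N.aug Q₀ (oS V.unop))
       naturality := fun V V' h => ConcreteCategory.hom_ext _ _ fun s => (N.tr_aug Q₀ h.unop.le s).symm }⟩
  have hε : ε ≫ (N.totCx Q₀).d 0 1 = 0 := CategoryTheory.Sheaf.hom_ext (by
    refine NatTrans.ext (funext fun V => ConcreteCategory.hom_ext _ _ fun s => ?_)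
    exact Subtype.ext ((DCx.stepCx_d (N.K Q₀ (oS V.unop)) ⊤ 0 (N.aug Q₀ (oS V.unop) s)).trans
      (N.D_aug₀ Q₀ (oS V.unop) s)))
  have hmono : Mono ε := mono_of_near ε fun V s hs x hx => hLD.inj V s hs x hx
  have h0 : (ShortComplex.mk ε _ hε).Exact := exact_of_near _ fun V c hc x hx => by
    obtain ⟨V', h, hxV, t, ht⟩ := hLD.zero V c (N.D_eq_zero_of_d (oS V) 0 c hc) x hx
    exact ⟨V', h, hxV, t, ht⟩
  obtain ⟨e⟩ := nonempty_gamma_homology_iso F (N.totCx Q₀) (fun n _ => N.isFlasque_totCx Q₀ n) ε hε hmono h0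
    (fun n hn => by
      obtain ⟨m, rfl⟩ : ∃ m : ℕ, n = (m : ℤ) + 1 := ⟨(n - 1).toNat, by omega⟩
      exact N.totCx_exactAt hLD m) q
  exact ⟨HomologicalComplex.homologyMapIso
    (HomologicalComplex.Hom.isoOfComponents (fun i => Iso.refl _)
      (fun i j _ => (Category.id_comp _).trans (Category.comp_id _).symm)) _ ≪≫ e⟩

/-- A level over the whole base is the level. -/
def bcTopIso (p : ℕ) : N.bc p (oS ⊤) ≅ (⟨N.X p, N.a p, ⊤⟩ : Sp S) where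
  hom := ⟨⟨fun z => ⟨z.1.1.2, trivial⟩,
    (continuous_snd.comp (continuous_subtype_val.comp continuous_subtype_val)).subtype_mk _⟩, fun z => z.1.2⟩
  inv := ⟨⟨fun z => ⟨⟨(N.a p z.1, z.1), rfl⟩, trivial⟩,
    Continuous.subtype_mk (Continuous.subtype_mk
      (((N.a p).hom.continuous.comp continuous_subtype_val).prodMk continuous_subtype_val) _) _⟩, fun _ => rfl⟩
  hom_inv_id := hom_ext _ _ fun z => Subtype.ext (Prod.ext z.1.2 rfl)
  inv_hom_id := hom_ext _ _ fun _ => rfl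

theorem nonempty_lvl_homology_iso (F : CohTop.Ab S) (p q : ℕ) :
    Nonempty (((N.K (p0 F) (oS ⊤)).X (p : ℤ)).homology (q : ℤ) ≅
      AddCommGrpCat.of (CohTop.H ((CohTop.pull (N.a p)).obj F) q)) := by
  obtain ⟨e⟩ := nonempty_p0_homology_iso (N.X p) (N.a p) F q
  exact ⟨(HomologicalComplex.homologyFunctor _ _ (q : ℤ)).mapIso
    ((cxFun (p0 F)).mapIso (N.bcTopIso p).symm.op) ≪≫ e⟩

/-- Local descent gives the descent spectral sequence. -/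
theorem exists_descent (F : CohTop.Ab S) (hLD : N.LocDesc (p0 F)) (E₁ : ℤ → ℤ → AddCommGrpCat.{u})
    (hE : ∀ p q : ℕ, Nonempty (AddCommGrpCat.of (CohTop.H ((CohTop.pull (N.a p)).obj F) q) ≅ E₁ p q))
    (hE0 : ∀ p q : ℤ, p < 0 ∨ q < 0 → IsZero (E₁ p q)) :
    ∃ (E : CohomologicalSpectralSequence AddCommGrpCat.{u} 1)
      (a : SpSeq.Abutment E (fun n : ℤ =>
        if 0 ≤ n then AddCommGrpCat.of (CohTop.H F n.toNat) else AddCommGrpCat.of PUnit.{u + 1})),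
      (∀ n, a.IsFinite n) ∧ SpSeq.IsBounded E ∧
      ∀ p q : ℤ, Nonempty ((E.page 1 le_rfl).X (p, q) ≅ E₁ p q) := by
  refine exists_spectralSequence (N.K (p0 F) (oS ⊤)) (N.isQuad_K _ _) _ (fun n => ?_) E₁ (fun p q => ?_)
  · split_ifs with h
    · obtain ⟨m, rfl⟩ : ∃ m : ℕ, n = (m : ℤ) := ⟨n.toNat, by omega⟩
      obtain ⟨e⟩ := N.nonempty_total_homology_iso (p0_isSheaf F S (𝟙 S)) hLD m
      obtain ⟨e'⟩ := nonempty_p0Sheaf_iso F S (𝟙 S)
      obtain ⟨e''⟩ := nonempty_pull_id_iso F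
      exact ⟨e ≪≫ (Sheaf.functorH (Opens.grothendieckTopology S) m).mapIso (e'.symm ≪≫ e'') ≪≫
        eqToIso (by simp only [Int.toNat_natCast]; rfl)⟩
    · haveI : Subsingleton (AddCommGrpCat.of PUnit.{u + 1} : AddCommGrpCat.{u}) :=
        inferInstanceAs (Subsingleton PUnit.{u + 1})
      refine ⟨IsZero.iso ?_ (AddCommGrpCat.isZero_of_subsingleton _)⟩
      exact DCx.isZero_homology_of_isZero ((N.totCx (p0 F)).isZero_of_isStrictlyGE 0 n (by omega) |>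
        (sheafToPresheaf _ _ ⋙ (evaluation _ _).obj (op ⊤)).map_isZero)
  · by_cases h : 0 ≤ p ∧ 0 ≤ q
    · obtain ⟨p', rfl⟩ : ∃ m : ℕ, p = (m : ℤ) := ⟨p.toNat, by omega⟩
      obtain ⟨q', rfl⟩ : ∃ m : ℕ, q = (m : ℤ) := ⟨q.toNat, by omega⟩
      obtain ⟨e⟩ := N.nonempty_lvl_homology_iso F p' q'
      exact ⟨e ≪≫ (hE p' q').some⟩
    · exact ⟨IsZero.iso (DCx.isZero_homology_of_isZero (N.isQuad_K _ _ p q (by omega))) (hE0 p q (by omega))⟩

theorem isZero_punit : IsZero (AddCommGrpCat.of PUnit.{u + 1}) :=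
  haveI : Subsingleton (AddCommGrpCat.of PUnit.{u + 1} : AddCommGrpCat.{u}) :=
    inferInstanceAs (Subsingleton PUnit.{u + 1})
  AddCommGrpCat.isZero_of_subsingleton _

end Nv

end Groth.Agent.TopDesc98
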