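import Groth.Agent.TopDesc98.Nerve.OfMap
import Groth.Agent.TopDesc98.God.Near
import Mathlib.Topology.Maps.Proper.Basic

/-!
# Fibres of the fibre powers of a proper separated map
-/

set_option autoImplicit false
set_option linter.style.haveILetI false

universe u

open CategoryTheory CategoryTheory.Limits Opposite TopologicalSpace Topology

namespace Groth.Agent.TopDesc98

variable {S : TopCat.{u}}

/-- A point of the base as a space over the base. -/
def ptSp (x : S) : Sp S := ⟨TopCat.of PUnit.{u + 1}, TopCat.ofHom ⟨fun _ => x, continuous_const⟩, ⊤⟩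

/-- The point inside an open. -/
def ptInc {x : S} {V : Opens S} (hx : x ∈ V) : ptSp x ⟶ Nv.oS V :=
  Sp.homMk (o' := ptSp x) (o := Nv.oS V) (fun _ => x) continuous_const.continuousOn (fun _ _ => hx) fun _ _ => rfl

namespace Nv

variable (N : Nv S) (x : S)

/-- The fibre of a level inside the level. -/
def fibInc (p : ℕ) : (N.bc p (ptSp x)).T ⟶ (N.bc p (oS ⊤)).T :=
  TopCat.ofHom ⟨fun z => ⟨(x, z.1.2), z.2⟩,
    (continuous_const.prodMk (continuous_snd.comp continuous_subtype_val)).subtype_mk _⟩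

theorem fibInc_a (p : ℕ) : N.fibInc x p ≫ (N.bc p (oS ⊤)).a = (N.bc p (ptSp x)).a := rfl

end Nv

variable {X : TopCat.{u}} (f : X ⟶ S)

/-- The coordinates of a fibre power. -/
def coord (p : ℕ) (o : Sp S) : C(((Nv.ofMap f).bc p o).T, Fin (p + 1) → X) :=
  ⟨fun z => z.1.2.1, continuous_subtype_val.comp (continuous_snd.comp continuous_subtype_val)⟩

theorem isInducing_coord_pt (x : S) (p : ℕ) : IsInducing (coord f p (ptSp x)) :=
  IsInducing.subtypeVal.comp
    (((Homeomorph.punitProd ((Nv.ofMap f).X p)).isInducing).comp IsInducing.subtypeVal)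

theorem isInducing_fibInc (x : S) (p : ℕ) : IsInducing ((Nv.ofMap f).fibInc x p) :=
  IsInducing.of_comp ((Nv.ofMap f).fibInc x p).hom.continuous (coord f p (Nv.oS ⊤)).continuous
    (isInducing_coord_pt f x p)

variable (hf : IsProperMap f)

include hf in
theorem compactSpace_fib (x : S) (p : ℕ) : CompactSpace ((Nv.ofMap f).bc p (ptSp x)).T := by
  refine ⟨?_⟩
  rw [(isInducing_coord_pt f x p).isCompact_iff, Set.image_univ]
  have hr : Set.range (coord f p (ptSp x)) = Set.pi Set.univ fun _ : Fin (p + 1) => f ⁻¹' {x} := by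
    ext y
    constructor
    · rintro ⟨z, rfl⟩ k -
      exact (z.1.2.2 k).trans z.2
    · intro hy
      exact ⟨⟨(PUnit.unit, ⟨y, fun k => (hy k trivial).trans (hy 0 trivial).symm⟩), hy 0 trivial⟩, rfl⟩
  rw [hr]
  exact isCompact_univ_pi fun _ => hf.isCompact_preimage isCompact_singleton

theorem disjoint_nhds_fibInc (hs : ∀ x x' : X, f x = f x' → x ≠ x' →
      ∃ U V : Set X, IsOpen U ∧ IsOpen V ∧ x ∈ U ∧ x' ∈ V ∧ Disjoint U V) (x : S) (p : ℕ)
    (z z' : ((Nv.ofMap f).bc p (ptSp x)).T) (h : z ≠ z') :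
    Disjoint (𝓝 ((Nv.ofMap f).fibInc x p z)) (𝓝 ((Nv.ofMap f).fibInc x p z')) := by
  obtain ⟨k, hk⟩ : ∃ k, z.1.2.1 k ≠ z'.1.2.1 k := by
    by_contra hc
    simp only [not_exists, not_not] at hc
    exact h (Subtype.ext (Prod.ext rfl (Subtype.ext (funext hc))))
  have hd := CTopNbd.disjoint_nhds_of_sep
    (hs _ _ (((z.1.2.2 k).trans z.2).trans ((z'.1.2.2 k).trans z'.2).symm) hk)
  let g : C(((Nv.ofMap f).bc p (Nv.oS ⊤)).T, X) :=
    ⟨fun w => w.1.2.1 k, (continuous_apply k).comp (coord f p (Nv.oS ⊤)).continuous⟩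
  exact Filter.Tendsto.disjoint (g.continuous.tendsto _) hd (g.continuous.tendsto _)

include hf in
theorem isProperMap_ofMap (p : ℕ) : IsProperMap ((Nv.ofMap f).a p) := by
  refine isProperMap_iff_ultrafilter.2 ⟨((Nv.ofMap f).a p).hom.continuous, fun 𝒰 s hs => ?_⟩
  have hk : ∀ k, ∃ y, f y = s ∧ (𝒰.map (fun z : (Nv.ofMap f).X p => z.1 k) : Filter X) ≤ 𝓝 y := fun k => by
    refine (isProperMap_iff_ultrafilter.1 hf).2 (𝒰 := 𝒰.map (fun z : (Nv.ofMap f).X p => z.1 k)) ?_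
    refine Filter.Tendsto.congr (fun z => (z.2 k).symm) hs |> fun h => ?_
    exact h
  choose y hy hle using hk
  refine ⟨⟨y, fun k => (hy k).trans (hy 0).symm⟩, hy 0, ?_⟩
  have h : Filter.Tendsto (fun z : (Nv.ofMap f).X p => z.1) 𝒰 (𝓝 y) := tendsto_pi_nhds.2 hle
  exact Filter.tendsto_id'.1 (tendsto_subtype_rng.2 h)

include hf in
theorem exists_preimage_le (x : S) (p : ℕ) (V : Opens S) (hx : x ∈ V)
    (W : Opens ((Nv.ofMap f).bc p (Nv.oS ⊤)).T) (hW : ∀ z, (Nv.ofMap f).fibInc x p z ∈ W) :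
    ∃ (V' : Opens S) (_ : V' ≤ V), x ∈ V' ∧ ((Nv.ofMap f).bc p (Nv.oS V')).U ≤ W := by
  let g : C((Nv.ofMap f).X p, ((Nv.ofMap f).bc p (Nv.oS ⊤)).T) :=
    ⟨fun y => ⟨((Nv.ofMap f).a p y, y), rfl⟩,
      (((Nv.ofMap f).a p).hom.continuous.prodMk continuous_id).subtype_mk _⟩
  let E : Set S := (Nv.ofMap f).a p '' (g ⁻¹' (W : Set _))ᶜ
  have hE : IsClosed E := (isProperMap_ofMap f hf p).isClosedMap _ (W.2.preimage g.continuous).isClosed_compl
  have hxE : x ∉ E := by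
    rintro ⟨y, hy, hyx⟩
    refine hy ?_
    have := hW ⟨(PUnit.unit, y), hyx⟩
    show g y ∈ W
    rw [show g y = (Nv.ofMap f).fibInc x p ⟨(PUnit.unit, y), hyx⟩ from Subtype.ext (Prod.ext hyx rfl)]
    exact this
  refine ⟨V ⊓ ⟨Eᶜ, hE.isOpen_compl⟩, inf_le_left, ⟨hx, hxE⟩, fun z hz => ?_⟩
  have hz2 : z.1.1 ∉ E := hz.2
  by_contra hzW
  refine hz2 ⟨z.1.2, fun hc => hzW ?_, z.2⟩
  have e : g z.1.2 = z := Subtype.ext (Prod.ext z.2 rfl)
  exact e ▸ hc

end Groth.Agent.TopDesc98
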