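import Groth.Agent.TopDesc98.God.Res
import Groth.Agent.TopDesc98.Nerve.Coface

/-!
# Double complexes of semi-simplicial spaces over a base, functorially in the base
-/

set_option autoImplicit false

universe u

open CategoryTheory CategoryTheory.Limits Opposite TopologicalSpace
open scoped ZeroObject

namespace Groth.Agent.TopDesc98

/-- A semi-simplicial space over `S`. -/
structure Nv (S : TopCat.{u}) : Type (u + 1) where
  /-- The spaces. -/
  X : ℕ → TopCat.{u}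
  /-- The structure maps. -/
  a : ∀ p, X p ⟶ S
  /-- The faces. -/
  d : ∀ p, Fin (p + 2) → C(X (p + 1), X p)
  d_over : ∀ (p : ℕ) (i : Fin (p + 2)) (x : X (p + 1)), a p (d p i x) = a (p + 1) x
  d_d : ∀ (p : ℕ) (i j : Fin (p + 2)), i ≤ j → ∀ x : X (p + 1 + 1),
    d p i (d (p + 1) j.succ x) = d p j (d (p + 1) i.castSucc x)

namespace Nv

open Sp

variable {S : TopCat.{u}} (N : Nv S)

/-- The base change of a level to a space over `S`. -/
def bc (p : ℕ) (o : Sp S) : Sp S where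
  T := TopCat.of {ty : o.T × N.X p // N.a p ty.2 = o.a ty.1}
  a := TopCat.ofHom ⟨fun z => o.a z.1.1, o.a.hom.continuous.comp (continuous_fst.comp continuous_subtype_val)⟩
  U := ⟨{z | z.1.1 ∈ o.U}, o.U.2.preimage (continuous_fst.comp continuous_subtype_val)⟩

/-- Functoriality in the base. -/
def bcMap (p : ℕ) {o' o : Sp S} (f : o' ⟶ o) : N.bc p o' ⟶ N.bc p o :=
  ⟨⟨fun z => ⟨⟨((f.g ⟨z.1.1.1, z.2⟩).1, z.1.1.2), z.1.2.trans (f.comm ⟨z.1.1.1, z.2⟩).symm⟩,
      (f.g ⟨z.1.1.1, z.2⟩).2⟩,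
    Continuous.subtype_mk (Continuous.subtype_mk ((continuous_subtype_val.comp
      (f.g.continuous.comp ((continuous_fst.comp (continuous_subtype_val.comp continuous_subtype_val)).subtype_mk
        fun z => z.2))).prodMk
      (continuous_snd.comp (continuous_subtype_val.comp continuous_subtype_val))) _) _⟩,
    fun z => f.comm ⟨z.1.1.1, z.2⟩⟩

/-- The faces after base change. -/
def bcFace (p : ℕ) (i : Fin (p + 2)) (o : Sp S) : N.bc (p + 1) o ⟶ N.bc p o :=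
  ⟨⟨fun z => ⟨⟨(z.1.1.1, N.d p i z.1.1.2), (N.d_over p i _).trans z.1.2⟩, z.2⟩,
    Continuous.subtype_mk (Continuous.subtype_mk
      ((continuous_fst.comp (continuous_subtype_val.comp continuous_subtype_val)).prodMk
        ((N.d p i).continuous.comp (continuous_snd.comp (continuous_subtype_val.comp continuous_subtype_val)))) _) _⟩,
    fun _ => rfl⟩

/-- The augmentation after base change. -/
def bcAug (o : Sp S) : N.bc 0 o ⟶ o :=
  ⟨⟨fun z => ⟨z.1.1.1, z.2⟩,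
    (continuous_fst.comp (continuous_subtype_val.comp continuous_subtype_val)).subtype_mk _⟩, fun _ => rfl⟩

theorem bcFace_bcMap (p : ℕ) (i : Fin (p + 2)) {o' o : Sp S} (f : o' ⟶ o) :
    N.bcMap (p + 1) f ≫ N.bcFace p i o = N.bcFace p i o' ≫ N.bcMap p f :=
  hom_ext _ _ fun _ => rfl

theorem bcAug_bcMap {o' o : Sp S} (f : o' ⟶ o) : N.bcMap 0 f ≫ N.bcAug o = N.bcAug o' ≫ f :=
  hom_ext _ _ fun _ => rfl

theorem bcMap_id (p : ℕ) (o : Sp S) : N.bcMap p (𝟙 o) = 𝟙 _ := hom_ext _ _ fun _ => rfl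

theorem bcMap_comp (p : ℕ) {o'' o' o : Sp S} (f' : o'' ⟶ o') (f : o' ⟶ o) :
    N.bcMap p (f' ≫ f) = N.bcMap p f' ≫ N.bcMap p f := hom_ext _ _ fun _ => rfl

theorem bcFace_bcFace (p : ℕ) (i j : Fin (p + 2)) (h : i ≤ j) (o : Sp S) :
    N.bcFace (p + 1) j.succ o ≫ N.bcFace p i o = N.bcFace (p + 1) i.castSucc o ≫ N.bcFace p j o :=
  hom_ext _ _ fun z => Subtype.ext (Prod.ext rfl (N.d_d p i j h z.1.1.2))

theorem bcAug_bcFace (i j : Fin 2) (o : Sp S) : N.bcFace 0 i o ≫ N.bcAug o = N.bcFace 0 j o ≫ N.bcAug o :=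
  hom_ext _ _ fun _ => rfl

variable (Q₀ : Psh S)

/-- The cochains of a level. -/
noncomputable abbrev lvl (o : Sp S) (p : ℕ) : CochainComplex AddCommGrpCat.{u} ℤ :=
  (cxFun Q₀).obj (op (N.bc p o))

/-- The cofaces. -/
noncomputable def coface (o : Sp S) (p : ℕ) (i : Fin (p + 2)) : N.lvl Q₀ o p ⟶ N.lvl Q₀ o (p + 1) :=
  (cxFun Q₀).map (N.bcFace p i o).op

theorem coface_coface (o : Sp S) (p : ℕ) (i j : Fin (p + 2)) (h : i ≤ j) :
    N.coface Q₀ o p i ≫ N.coface Q₀ o (p + 1) j.succ = N.coface Q₀ o p j ≫ N.coface Q₀ o (p + 1) i.castSucc := by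
  dsimp only [coface]
  rw [← (cxFun Q₀).map_comp, ← (cxFun Q₀).map_comp, ← op_comp, ← op_comp, N.bcFace_bcFace p i j h o]

/-- The double complex. -/
noncomputable def K (o : Sp S) : DCx.{u} := altCx (N.lvl Q₀ o) (N.coface Q₀ o) (N.coface_coface Q₀ o)

theorem map_bcMap_coface {o' o : Sp S} (f : o' ⟶ o) (p : ℕ) (i : Fin (p + 2)) :
    (cxFun Q₀).map (N.bcMap p f).op ≫ N.coface Q₀ o' p i =
      N.coface Q₀ o p i ≫ (cxFun Q₀).map (N.bcMap (p + 1) f).op := by
  dsimp only [coface]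
  rw [← (cxFun Q₀).map_comp, ← (cxFun Q₀).map_comp, ← op_comp, ← op_comp, N.bcFace_bcMap p i f]

/-- The double complex is functorial in the base. -/
noncomputable def Kmap {o' o : Sp S} (f : o' ⟶ o) : N.K Q₀ o ⟶ N.K Q₀ o' :=
  altMap _ _ (fun p => (cxFun Q₀).map (N.bcMap p f).op) (N.map_bcMap_coface Q₀ f)

theorem Kmap_id (o : Sp S) : N.Kmap Q₀ (𝟙 o) = 𝟙 _ := by
  refine HomologicalComplex.hom_ext _ _ fun p => ?_
  cases p with
  | ofNat p =>
    show (cxFun Q₀).map (N.bcMap p (𝟙 o)).op = _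
    rw [N.bcMap_id]
    exact (cxFun Q₀).map_id _
  | negSucc p => exact (isZero_zero _).eq_of_src _ _

theorem Kmap_comp {o'' o' o : Sp S} (f' : o'' ⟶ o') (f : o' ⟶ o) :
    N.Kmap Q₀ (f' ≫ f) = N.Kmap Q₀ f ≫ N.Kmap Q₀ f' := by
  refine HomologicalComplex.hom_ext _ _ fun p => ?_
  cases p with
  | ofNat p =>
    show (cxFun Q₀).map (N.bcMap p (f' ≫ f)).op = _
    rw [N.bcMap_comp, op_comp]
    exact (cxFun Q₀).map_comp _ _
  | negSucc p => exact (isZero_zero _).eq_of_src _ _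

theorem K_d (o : Sp S) (p : ℕ) :
    (N.K Q₀ o).d (p : ℤ) ((p : ℤ) + 1) = altSum (N.lvl Q₀ o) (N.coface Q₀ o) p :=
  altCx_d _ _ (N.coface_coface Q₀ o) p

theorem isQuad_K (o : Sp S) : IsQuad (N.K Q₀ o) := fun p q h => by
  cases p with
  | ofNat p => exact isZero_p0_homology (op (N.bc p o)) q (h.resolve_left (by simp)) Q₀
  | negSucc p => exact (HomologicalComplex.eval AddCommGrpCat.{u} (ComplexShape.up ℤ) q).map_isZero (isZero_zero _)

/-- The total complexes, as a functor. -/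
noncomputable def totFun : (Sp S)ᵒᵖ ⥤ CochainComplex AddCommGrpCat.{u} ℤ where
  obj o := DCx.stepCx (N.K Q₀ o.unop) ⊤
  map f := DCx.stepMap (N.Kmap Q₀ f.unop) ⊤
  map_id o := by
    show DCx.stepMap (N.Kmap Q₀ (𝟙 o.unop)) ⊤ = _
    rw [Kmap_id, DCx.stepMap_id]
  map_comp f g := by
    show DCx.stepMap (N.Kmap Q₀ (g.unop ≫ f.unop)) ⊤ = _
    rw [Kmap_comp, DCx.stepMap_comp]

end Nv

end Groth.Agent.TopDesc98
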