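import Groth.Agent.TopDesc98.SS1.Tot

/-!
# Elements of a double complex supported at one position
-/

set_option autoImplicit false

universe u

open CategoryTheory CategoryTheory.Limits

namespace Groth.Agent.TopDesc98

namespace DCx

variable (K : DCx.{u})

open scoped Classical in
/-- The family supported at one position. -/
noncomputable def sgl (p q : ℤ) : (K.X p).X q →+ (∀ p q : ℤ, (K.X p).X q) :=
  (AddMonoidHom.single (fun p : ℤ => ∀ q : ℤ, (K.X p).X q) p).comp
    (AddMonoidHom.single (fun q : ℤ => (K.X p).X q) q)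

theorem sgl_self (p q : ℤ) (c : (K.X p).X q) : sgl K p q c p q = c := by
  classical
  exact (congrFun (Pi.single_eq_same (M := fun p : ℤ => ∀ q : ℤ, (K.X p).X q) p _) q).trans
    (Pi.single_eq_same (M := fun q : ℤ => (K.X p).X q) q c)

theorem sgl_ne (p q : ℤ) (c : (K.X p).X q) (p' q' : ℤ) (h : p' ≠ p ∨ q' ≠ q) : sgl K p q c p' q' = 0 := by
  classical
  by_cases hp : p' = p
  · subst hp
    exact (congrFun (Pi.single_eq_same (M := fun p : ℤ => ∀ q : ℤ, (K.X p).X q) p' _) q').trans
      (Pi.single_eq_of_ne (M := fun q : ℤ => (K.X p').X q) (h.resolve_left (not_not.2 rfl)) c)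
  · exact congrFun (Pi.single_eq_of_ne (M := fun p : ℤ => ∀ q : ℤ, (K.X p).X q) hp _) q'

theorem sgl_mem (p q : ℤ) (c : (K.X p).X q) (n : ℤ) (h : p + q = n) : sgl K p q c ∈ stepGrp K ⊤ n :=
  fun p' q' h' => sgl_ne K p q c p' q' (by
    rcases h' with h' | h'
    · by_contra hc
      simp only [not_or, not_not] at hc
      omega
    · exact absurd le_top h')

theorem D_sgl (p q p₁ q₁ : ℤ) (hp : p + 1 = p₁) (hq : q + 1 = q₁) (c : (K.X p).X q) :
    D K (sgl K p q c) = sgl K p q₁ ((p.negOnePow : ℤ) • ((K.X p).d q q₁).hom c) +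
      sgl K p₁ q (((K.d p p₁).f q).hom c) := by
  refine funext fun p' => funext fun q' => ?_
  rw [D_apply, Pi.add_apply, Pi.add_apply]
  congr 1
  · by_cases h : p' = p ∧ q' = q₁
    · obtain ⟨rfl, rfl⟩ := h
      obtain rfl : q = q' - 1 := by omega
      rw [sgl_self, sgl_self]
    · rw [sgl_ne K p q₁ _ p' q' (not_and_or.1 h), sgl_ne K p q c p' (q' - 1), map_zero, smul_zero]
      rcases not_and_or.1 h with h | h
      · exact Or.inl h
      · exact Or.inr (by omega)
  · by_cases h : p' = p₁ ∧ q' = q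
    · obtain ⟨rfl, rfl⟩ := h
      obtain rfl : p = p' - 1 := by omega
      rw [sgl_self, sgl_self]
    · rw [sgl_ne K p₁ q _ p' q' (not_and_or.1 h), sgl_ne K p q c (p' - 1) q', map_zero]
      rcases not_and_or.1 h with h | h
      · exact Or.inl (by omega)
      · exact Or.inr h

end DCx

end Groth.Agent.TopDesc98
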