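import Groth.Agent.TopDesc98.Nerve.Nv
import Groth.Agent.TopDesc98.Nerve.Sgl

/-!
# The total complex as a complex of flasque sheaves on the base
-/

set_option autoImplicit false
set_option linter.style.haveILetI false

universe u

open CategoryTheory CategoryTheory.Limits Opposite TopologicalSpace

namespace Groth.Agent.TopDesc98

namespace Nv

open Sp

variable {S : TopCat.{u}} (N : Nv S) (Q₀ : Psh S)

/-- An open subset of the base as a space over the base. -/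
abbrev oS (V : Opens S) : Sp S := (ofOpen S (𝟙 S)).obj V

/-- The inclusion of opens of the base. -/
abbrev oI {V V' : Opens S} (h : V' ≤ V) : oS V' ⟶ oS V := (ofOpen S (𝟙 S)).map (homOfLE h)

/-- Restriction on the total complexes. -/
noncomputable def tr (n : ℤ) {V V' : Opens S} (h : V' ≤ V) :
    DCx.stepGrp (N.K Q₀ (oS V)) ⊤ n →+ DCx.stepGrp (N.K Q₀ (oS V')) ⊤ n :=
  (((N.totFun Q₀).map (oI h).op).f n).hom

theorem tr_val (n : ℤ) {V V' : Opens S} (h : V' ≤ V) (x : DCx.stepGrp (N.K Q₀ (oS V)) ⊤ n) (p q : ℤ) :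
    (N.tr Q₀ n h x).1 p q = (((N.Kmap Q₀ (oI h)).f p).f q).hom (x.1 p q) := rfl

theorem exists_glue_comp (n p q : ℤ) {ι : Type u} (U : ι → Opens S)
    (c : ∀ i, DCx.stepGrp (N.K Q₀ (oS (U i))) ⊤ n)
    (hc : ∀ i j, N.tr Q₀ n (inf_le_left : U i ⊓ U j ≤ U i) (c i) = N.tr Q₀ n (inf_le_right : U i ⊓ U j ≤ U j) (c j)) :
    ∃! s : ((N.K Q₀ (oS (iSup U))).X p).X q,
      ∀ i, (((N.Kmap Q₀ (oI (le_iSup U i))).f p).f q).hom s = (c i).1 p q := by
  cases p with
  | ofNat p =>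
    let T : TopCat.{u} := (N.bc p (oS (iSup U))).T
    let a : T ⟶ S := (N.bc p (oS (iSup U))).a
    let G : CohTop.Ab T := ⟨res (termZ Q₀ q) T a, termZ_isSheaf Q₀ T a q⟩
    exact TopCat.Sheaf.existsUnique_gluing' G (fun i => (N.bc p (oS (U i))).U) (N.bc p (oS (iSup U))).U
      (fun i => homOfLE fun z hz => le_iSup U i hz)
      (fun z hz => by
        obtain ⟨i, hi⟩ := Opens.mem_iSup.1 hz
        exact Opens.mem_iSup.2 ⟨i, hi⟩)
      (fun i => (c i).1 (Int.ofNat p) q)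
      (fun i j => congrFun (congrFun (congrArg Subtype.val (hc i j)) (Int.ofNat p)) q)
  | negSucc p =>
    have hz : ∀ V, Subsingleton (((N.K Q₀ (oS V)).X (Int.negSucc p)).X q) := fun V =>
      AddCommGrpCat.subsingleton_of_isZero (N.isQuad_K Q₀ (oS V) _ q (Or.inl (Int.negSucc_lt_zero p)))
    exact ⟨0, fun i => @Subsingleton.elim _ (hz _) _ _, fun y _ => @Subsingleton.elim _ (hz _) _ _⟩

/-- The presheaves of the total complex. -/
noncomputable abbrev totPsh (n : ℤ) : TopCat.Presheaf AddCommGrpCat.{u} S :=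
  (ofOpen S (𝟙 S)).op ⋙ N.totFun Q₀ ⋙ HomologicalComplex.eval AddCommGrpCat.{u} (ComplexShape.up ℤ) n

theorem totPsh_isSheaf (n : ℤ) : TopCat.Presheaf.IsSheaf (N.totPsh Q₀ n) := by
  refine (TopCat.Presheaf.isSheaf_iff_isSheafUniqueGluing _).2 fun ι U c hc => ?_
  choose g hg hu using fun p q => N.exists_glue_comp Q₀ n p q U c hc
  refine ⟨⟨g, fun p q h => ?_⟩, fun i => ?_, fun s hs => ?_⟩
  · exact (hu p q 0 fun i => (map_zero _).trans ((c i).2 p q h).symm).symm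
  · exact Subtype.ext (funext fun p => funext fun q => hg p q i)
  · exact Subtype.ext (funext fun p => funext fun q => hu p q _ fun i =>
      congrFun (congrFun (congrArg Subtype.val (hs i)) p) q)

theorem Kmap_surjective (p q : ℤ) {V V' : Opens S} (h : V' ≤ V) :
    Function.Surjective (((N.Kmap Q₀ (oI h)).f p).f q).hom := by
  cases p with
  | ofNat p =>
    cases q with
    | ofNat q =>
      exact god_restrict_surjective (N.bc p (oS V)).T (N.bc p (oS V)).a (coker Q₀ q)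
        (U := (N.bc p (oS V)).U) (V := (N.bc p (oS V')).U) (fun z hz => h hz)
    | negSucc q =>
      exact fun y => ⟨0, @Subsingleton.elim _ (AddCommGrpCat.subsingleton_of_isZero
        (N.isQuad_K Q₀ (oS V') _ _ (Or.inr (Int.negSucc_lt_zero q)))) _ _⟩
  | negSucc p =>
    exact fun y => ⟨0, @Subsingleton.elim _ (AddCommGrpCat.subsingleton_of_isZero
      (N.isQuad_K Q₀ (oS V') _ _ (Or.inl (Int.negSucc_lt_zero p)))) _ _⟩

theorem tr_surjective (n : ℤ) {V V' : Opens S} (h : V' ≤ V) : Function.Surjective (N.tr Q₀ n h) := by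
  classical
  intro y
  choose x hx using fun p q => N.Kmap_surjective Q₀ p q h (y.1 p q)
  refine ⟨⟨fun p q => if p + q = n then x p q else 0, fun p q hpq => ?_⟩, Subtype.ext (funext fun p => funext fun q => ?_)⟩
  · rcases hpq with hpq | hpq
    · exact if_neg hpq
    · exact absurd le_top hpq
  · show (((N.Kmap Q₀ (oI h)).f p).f q).hom (if p + q = n then x p q else 0) = y.1 p q
    split_ifs with hpq
    · exact hx p q
    · exact (map_zero _).trans (y.2 p q (Or.inl hpq)).symm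

/-- The total complex as a complex of sheaves on the base. -/
noncomputable def totCx : CochainComplex (CohTop.Ab S) ℤ where
  X n := ⟨N.totPsh Q₀ n, N.totPsh_isSheaf Q₀ n⟩
  d i j := ⟨{ app := fun V => ((N.totFun Q₀).obj (op (oS V.unop))).d i j
              naturality := fun V V' h => ((N.totFun Q₀).map ((ofOpen S (𝟙 S)).map h.unop).op).comm i j }⟩
  shape i j h := CategoryTheory.Sheaf.hom_ext (by
    refine NatTrans.ext (funext fun V => ?_)
    exact ((N.totFun Q₀).obj (op (oS V.unop))).shape i j h)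
  d_comp_d' i j k _ _ := CategoryTheory.Sheaf.hom_ext (by
    refine NatTrans.ext (funext fun V => ?_)
    exact ((N.totFun Q₀).obj (op (oS V.unop))).d_comp_d i j k)

theorem isFlasque_totCx (n : ℤ) : TopCat.Sheaf.IsFlasque ((N.totCx Q₀).X n) where
  epi {U V} i := (AddCommGrpCat.epi_iff_surjective _).2 (N.tr_surjective Q₀ n i.unop.le)

instance : (N.totCx Q₀).IsStrictlyGE 0 := by
  rw [CochainComplex.isStrictlyGE_iff]
  intro n hn
  refine (IsZero.iff_id_eq_zero _).2 (CategoryTheory.Sheaf.hom_ext ?_)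
  refine NatTrans.ext (funext fun V => ConcreteCategory.hom_ext _ _ fun x => ?_)
  refine Subtype.ext (funext fun p => funext fun q => ?_)
  by_cases h : p < 0 ∨ q < 0
  · exact @Subsingleton.elim _ (AddCommGrpCat.subsingleton_of_isZero (N.isQuad_K Q₀ (oS V.unop) p q h)) _ _
  · exact (x.2 p q (Or.inl (by omega))).trans rfl

/-- The augmentation on components. -/
noncomputable def aug₀ (o : Sp S) : Q₀.obj (op o) →+ ((N.K Q₀ o).X 0).X 0 :=
  ((unit Q₀).app (op (N.bc 0 o))).hom.comp (Q₀.map (N.bcAug o).op).hom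

theorem aug₀_natural {o' o : Sp S} (f : o' ⟶ o) (s : Q₀.obj (op o)) :
    (((N.Kmap Q₀ f).f 0).f 0).hom (N.aug₀ Q₀ o s) = N.aug₀ Q₀ o' ((Q₀.map f.op).hom s) := by
  refine (ConcreteCategory.congr_hom ((unit Q₀).naturality (N.bcMap 0 f).op)
    ((Q₀.map (N.bcAug o).op).hom s)).symm.trans ?_
  exact congrArg ((unit Q₀).app (op (N.bc 0 o'))).hom
    (map_map_eq Q₀ (N.bcAug o) (N.bcMap 0 f) f (N.bcAug o') (fun _ => rfl) s)

theorem D_aug₀ (o : Sp S) (s : Q₀.obj (op o)) :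
    DCx.D (N.K Q₀ o) (DCx.sgl (N.K Q₀ o) 0 0 (N.aug₀ Q₀ o s)) = 0 := by
  rw [DCx.D_sgl (N.K Q₀ o) 0 0 1 1 rfl rfl]
  have h₁ : ((((N.K Q₀ o).X 0).d 0 1)).hom (N.aug₀ Q₀ o s) = 0 :=
    ConcreteCategory.congr_hom (congrArg (fun t : Q₀ ⟶ (cx Q₀).X 1 => t.app (op (N.bc 0 o))) (unit_cx_d Q₀))
      ((Q₀.map (N.bcAug o).op).hom s)
  have hδ : ∀ i : Fin 2, ((N.coface Q₀ o 0 i).f 0).hom (N.aug₀ Q₀ o s) =
      ((N.coface Q₀ o 0 0).f 0).hom (N.aug₀ Q₀ o s) := fun i => by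
    refine (ConcreteCategory.congr_hom ((unit Q₀).naturality (N.bcFace 0 i o).op)
      ((Q₀.map (N.bcAug o).op).hom s)).symm.trans ?_
    refine Eq.trans ?_ (ConcreteCategory.congr_hom ((unit Q₀).naturality (N.bcFace 0 0 o).op)
      ((Q₀.map (N.bcAug o).op).hom s))
    exact congrArg ((unit Q₀).app (op (N.bc 1 o))).hom
      (map_map_eq Q₀ (N.bcAug o) (N.bcFace 0 i o) (N.bcAug o) (N.bcFace 0 0 o) (fun _ => rfl) s)
  have h₂ : (((N.K Q₀ o).d 0 1).f 0).hom (N.aug₀ Q₀ o s) = 0 := by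
    refine (ConcreteCategory.congr_hom (HomologicalComplex.congr_hom (N.K_d Q₀ o 0) 0) (N.aug₀ Q₀ o s)).trans ?_
    show ((altSum (N.lvl Q₀ o) (N.coface Q₀ o) 0).f 0).hom (N.aug₀ Q₀ o s) = 0
    rw [altSum, Fin.sum_univ_two]
    simp only [Fin.val_zero, Fin.val_one, pow_zero, one_smul, pow_one, HomologicalComplex.add_f_apply,
      HomologicalComplex.zsmul_f_apply, AddCommGrpCat.hom_add, AddCommGrpCat.hom_zsmul, neg_smul, one_zsmul]
    show ((N.coface Q₀ o 0 0).f 0).hom (N.aug₀ Q₀ o s) + -((N.coface Q₀ o 0 1).f 0).hom (N.aug₀ Q₀ o s) = 0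
    rw [hδ 1, add_neg_cancel]
  rw [h₁, h₂, smul_zero, map_zero, map_zero, add_zero]

/-- The augmentation in degree zero. -/
noncomputable def aug (o : Sp S) : Q₀.obj (op o) →+ DCx.stepGrp (N.K Q₀ o) ⊤ 0 :=
  ((DCx.sgl (N.K Q₀ o) 0 0).comp (N.aug₀ Q₀ o)).codRestrict (DCx.stepGrp (N.K Q₀ o) ⊤ 0)
    fun s => DCx.sgl_mem _ 0 0 _ 0 rfl

theorem sgl_natural {o' o : Sp S} (f : o' ⟶ o) (p q : ℤ) (c : ((N.K Q₀ o).X p).X q) :
    (fun p' q' => (((N.Kmap Q₀ f).f p').f q').hom (DCx.sgl (N.K Q₀ o) p q c p' q')) =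
      DCx.sgl (N.K Q₀ o') p q ((((N.Kmap Q₀ f).f p).f q).hom c) := by
  refine funext fun p' => funext fun q' => ?_
  by_cases h : p' = p ∧ q' = q
  · obtain ⟨rfl, rfl⟩ := h
    rw [DCx.sgl_self, DCx.sgl_self]
  · rw [DCx.sgl_ne _ p q _ p' q' (not_and_or.1 h), DCx.sgl_ne _ p q _ p' q' (not_and_or.1 h)]
    exact map_zero _

theorem tr_aug {V V' : Opens S} (h : V' ≤ V) (s : Q₀.obj (op (oS V))) :
    N.tr Q₀ 0 h (N.aug Q₀ (oS V) s) = N.aug Q₀ (oS V') ((Q₀.map (oI h).op).hom s) :=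
  Subtype.ext ((N.sgl_natural Q₀ (oI h) 0 0 _).trans (congrArg _ (N.aug₀_natural Q₀ (oI h) s)))

end Nv

end Groth.Agent.TopDesc98
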